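import Cfsg.Agent.H310.A4Two2
import Cfsg.Agent.Lib.PSL2Torus
import Cfsg.Agent.ClassicalGeometry.PSL2Basic
import Cfsg.Agent.SmallSimple.PSLTwoPart
import Cfsg.Agent.ClassicalGeometry.SLTwoFour

/-!
# 2-transitive groups with two-point stabilizer `A₄`: small cases
-/

set_option autoImplicit false

namespace Cfsg.Agent.H310.A4AS

open MulAction Subgroup Cfsg.Agent.H310.A4Act Cfsg.Agent.H310.VSyl

universe u v

namespace Sit

variable {G : Type u} {Ω : Type v} [Group G] [MulAction G Ω] [Finite G] [Finite Ω] (H : Sit G Ω)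
include H

omit [Finite G] [Finite Ω] in
theorem perm_injective : Function.Injective (MulAction.toPermHom G Ω) := by
  rw [injective_iff_map_eq_one]
  intro g hg
  exact H.ff g fun x => Equiv.congr_fun hg x

theorem ne_five {a b : Ω} (hab : a ≠ b) : Nat.card Ω ≠ 5 := by
  intro h
  have h1 := H.card_G hab
  have h2 := Nat.card_le_card_of_injective _ H.perm_injective
  rw [Nat.card_perm, h1, h] at h2
  revert h2
  decide

theorem six {a b : Ω} (hab : a ≠ b) (h : Nat.card Ω = 6) : Nonempty (G ≃* ↥(alternatingGroup (Fin 6))) := by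
  have h1 := H.card_G hab
  rw [h] at h1
  let eΩ : Ω ≃ Fin 6 := (Finite.equivFin Ω).trans (finCongr h)
  let f : G →* Equiv.Perm (Fin 6) := (eΩ.permCongrHom).toMonoidHom.comp (MulAction.toPermHom G Ω)
  have hf : Function.Injective f := (eΩ.permCongrHom).injective.comp H.perm_injective
  have h2 : Nat.card f.range = 360 := by
    rw [Nat.card_congr (MonoidHom.ofInjective hf).symm.toEquiv, h1]
  have h3 : f.range.index = 2 := by
    have h4 := f.range.card_mul_index
    have h5 : Nat.card (Equiv.Perm (Fin 6)) = 720 := by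
      rw [Nat.card_perm, Nat.card_eq_fintype_card, Fintype.card_fin]; rfl
    rw [h2, h5] at h4
    omega
  have h4 := Equiv.Perm.eq_alternatingGroup_of_index_eq_two h3
  exact ⟨(MonoidHom.ofInjective hf).trans (MulEquiv.subgroupCongr h4)⟩

variable {T : Subgroup G} [hT : T.Normal]

/-- the involutions of two-point stabilizers are in `T` if `T` is big enough -/
theorem mem_of_ne_bot {a b : Ω} (hab : a ≠ b) {x : G} (hxT : x ∈ T) (hx1 : x ≠ 1) (hxa : x • a = a) (hxb : x • b = b)
    {t : G} (ht : t ≠ 1) (htt : t * t = 1) (hta : t • a = a) (htb : t • b = b) : t ∈ T := by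
  obtain ⟨e⟩ := H.st a b hab
  exact normal_mem e (T.subgroupOf (stabilizer G a ⊓ stabilizer G b)) (x := ⟨x, hxa, hxb⟩) (t := ⟨t, hta, htb⟩)
    hxT (fun h => hx1 (congrArg Subtype.val h)) (fun h => ht (congrArg Subtype.val h)) (Subtype.ext htt)

theorem mem_of_card {a b : Ω} (hab : a ≠ b) (hc : Nat.card Ω * (Nat.card Ω - 1) < Nat.card T)
    {t : G} (ht : t ≠ 1) (htt : t * t = 1) (hta : t • a = a) (htb : t • b = b) : t ∈ T := by
  have h1 := card_orbit T (orbit T ((a, b) : Ω × Ω)) (a, b) rfl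
  have h2 : (orbit T ((a, b) : Ω × Ω)).ncard ≤ Nat.card Ω * (Nat.card Ω - 1) := by
    classical
    have : Fintype Ω := Fintype.ofFinite Ω
    have h3 : orbit T ((a, b) : Ω × Ω) ⊆ ((Finset.univ : Finset Ω).offDiag : Set (Ω × Ω)) := by
      rintro _ ⟨⟨g, hg⟩, rfl⟩
      simp only [Finset.coe_offDiag, Set.mem_offDiag]
      refine ⟨by simp, by simp, ?_⟩
      change g • a ≠ g • b
      rwa [Ne, smul_left_cancel_iff]
    have h4 := Set.ncard_le_ncard h3 (Finset.finite_toSet _)
    rw [Set.ncard_coe_finset, Finset.offDiag_card, Finset.card_univ, ← Nat.card_eq_fintype_card] at h4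
    refine h4.trans (le_of_eq ?_)
    rw [Nat.mul_sub, mul_one]
  have h3 : 1 < Nat.card ↥(T ⊓ stabilizer G ((a, b) : Ω × Ω)) := by
    by_contra hcon
    push Not at hcon
    have : Nat.card T ≤ Nat.card Ω * (Nat.card Ω - 1) := by
      rw [h1]
      calc _ ≤ (orbit T ((a, b) : Ω × Ω)).ncard * 1 := Nat.mul_le_mul_left _ hcon
        _ ≤ _ := by rw [mul_one]; exact h2
    omega
  have h4 : Nontrivial ↥(T ⊓ stabilizer G ((a, b) : Ω × Ω)) := Finite.one_lt_card_iff_nontrivial.1 h3
  obtain ⟨⟨x, hx, hx'⟩, hx1⟩ := _root_.exists_ne (1 : ↥(T ⊓ stabilizer G ((a, b) : Ω × Ω)))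
  have hx'' : x • ((a, b) : Ω × Ω) = (a, b) := hx'
  exact H.mem_of_ne_bot hab hx (fun h => hx1 (Subtype.ext h)) (congrArg Prod.fst hx'') (congrArg Prod.snd hx'')
    ht htt hta htb

/-- an involution in a two-point stabilizer -/
theorem exists_inv {a b : Ω} (hab : a ≠ b) : ∃ t : G, t ≠ 1 ∧ t * t = 1 ∧ t • a = a ∧ t • b = b := by
  obtain ⟨e⟩ := H.st a b hab
  obtain ⟨t, h1, h2⟩ := A4Act.exists_inv e
  exact ⟨t, fun h => h1 (Subtype.ext h), congrArg Subtype.val h2, t.2.1, t.2.2⟩

/-- the case `PSL₂(q)`, `q` odd, of degree `q + 1` -/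
theorem psl_odd {a b : Ω} (hab : a ≠ b) {F : Type} [Field F] [Fintype F] (hF : Odd (Fintype.card F))
    (hF4 : 4 ≤ Fintype.card F) (e : T ≃* Matrix.ProjectiveSpecialLinearGroup (Fin 2) F)
    (hn : Nat.card Ω = Fintype.card F + 1) : Nat.card Ω = 6 := by
  have h2 : (2 : F) ≠ 0 := Cfsg.Agent.ClassicalGeometry.SLTwoFour.two_ne_zero_of_odd hF
  obtain ⟨k, hk⟩ := hF
  have hTc : Nat.card T = (2 * k + 1) * (k * (2 * k + 2)) := by
    have h3 := Cfsg.Agent.ClassicalGeometry.PSL2Basic.card_PSL2_odd F ⟨k, hk⟩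
    rw [← Nat.card_congr e.toEquiv, hk] at h3
    have h4 : (2 * k + 1) ^ 2 - 1 = 2 * (k * (2 * k + 2)) := by
      have : (2 * k + 1) ^ 2 = 2 * (k * (2 * k + 2)) + 1 := by ring
      omega
    rw [h4] at h3
    have h5 : Nat.card T * 2 = (2 * k + 1) * (k * (2 * k + 2)) * 2 := by rw [h3]; ring
    omega
  have hGc := H.card_G hab
  have hΩ : Nat.card Ω = 2 * k + 2 := by omega
  rw [hΩ] at hGc
  have hGc' : Nat.card G = (2 * k + 2) * ((2 * k + 1) * 12) := by
    rw [hGc]; congr 2
  have hidx := T.card_mul_index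
  rw [hTc, hGc'] at hidx
  have hki : k * T.index = 12 := by
    have : (2 * k + 2) * (2 * k + 1) * (k * T.index) = (2 * k + 2) * (2 * k + 1) * 12 := by
      calc _ = (2 * k + 1) * (k * (2 * k + 2)) * T.index := by ring
        _ = _ := by rw [hidx]; ring
    exact Nat.eq_of_mul_eq_mul_left (by positivity) this
  obtain ⟨t, ht, htt, hta, htb⟩ := H.exists_inv hab
  have htT : t ∈ T := by
    refine H.mem_of_card hab ?_ ht htt hta htb
    rw [hTc, hΩ]
    have hk2 : 2 ≤ k := by omega
    have h3 : 2 * k + 2 - 1 = 2 * k + 1 := by omega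
    rw [h3]
    have : (2 * k + 2) * (2 * k + 1) * 1 < (2 * k + 2) * (2 * k + 1) * k := Nat.mul_lt_mul_of_pos_left (by omega) (by positivity)
    calc (2 * k + 2) * (2 * k + 1) < (2 * k + 2) * (2 * k + 1) * k := by linarith
      _ = _ := by ring
  have htL1 : (⟨t, htT⟩ : T) ≠ 1 := fun h => ht (congrArg Subtype.val h)
  have htL2 : (⟨t, htT⟩ : T) * ⟨t, htT⟩ = 1 := Subtype.ext htt
  obtain ⟨R, m, hR, hm⟩ := Cfsg.Agent.Lib.PSL2Torus.exists_torus h2 e htL1 htL2
  have hct := hR.card_centralizer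
  have hC1 : Nat.card ↥(T ⊓ stabilizer G (toCj t)) = 2 * m := by
    have h5 : ((centralizer ({(⟨t, htT⟩ : T)} : Set T))).map T.subtype = T ⊓ stabilizer G (toCj t) := by
      ext x
      constructor
      · rintro ⟨y, hy, rfl⟩
        refine ⟨y.2, mem_stab.2 ?_⟩
        exact congrArg Subtype.val (mem_centralizer_singleton_iff.1 hy)
      · rintro ⟨hx, hx'⟩
        refine ⟨⟨x, hx⟩, ?_, rfl⟩
        exact mem_centralizer_singleton_iff.2 (Subtype.ext (mem_stab.1 hx'))
    rw [← h5]
    have h6 := Nat.card_congr (((centralizer ({(⟨t, htT⟩ : T)} : Set T))).equivMapOfInjective _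
      T.subtype_injective).toEquiv
    rw [← h6, hct]
  have hSt : stabilizer G (toCj t) = centralizer {t} := by
    ext x
    rw [mem_stab, mem_centralizer_singleton_iff]
  have hC2 : Nat.card (centralizer ({t} : Set G)) = T.index * (2 * m) := by
    rw [← hSt, ← hC1]
    refine card_normal T (toCj t) fun g => ?_
    have h5 : g * t * g⁻¹ ∈ T := hT.conj_mem t htT g
    obtain ⟨l, hl⟩ := Cfsg.Agent.Lib.PSL2Torus.conj_inv h2 e (t := ⟨t, htT⟩) (u := ⟨g * t * g⁻¹, h5⟩)
      htL1 htL2 (by
        intro h6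
        have h7 : g * t * g⁻¹ = 1 := congrArg Subtype.val h6
        rw [mul_inv_eq_one, mul_eq_left] at h7
        exact ht h7)
      (Subtype.ext (by
        change g * t * g⁻¹ * (g * t * g⁻¹) = 1
        calc g * t * g⁻¹ * (g * t * g⁻¹) = g * (t * t) * g⁻¹ := by group
          _ = 1 := by rw [htt, mul_one, mul_inv_cancel]))
    exact ⟨l, l.2, congrArg Subtype.val hl⟩
  rw [H.card_centralizer hab ht htt hta htb] at hC2
  have hmod := fix_mod (Ω := Ω) htt
  rw [hΩ] at hmod
  set f := {x : Ω | t • x = x}.ncard with hf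
  rw [Nat.card_eq_fintype_card, hk] at hm
  have hf1 : f ≠ 1 := by omega
  rcases hm with ⟨hm4, hm⟩ | ⟨hm4, hm⟩
  · -- `q ≡ 1 mod 4`
    have hmk : m = k := by omega
    rw [hmk] at hC2
    have h6 : f * (f - 1) = 6 := by
      have : f * ((f - 1) * 4) = 24 := by
        rw [hC2]
        calc T.index * (2 * k) = 2 * (k * T.index) := by ring
          _ = 24 := by rw [hki]
      have h7 : f * (f - 1) * 4 = 24 := by rw [← this]; ring
      omega
    have hf3 : f < 4 := by
      by_contra h7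
      push Not at h7
      have : 4 * 3 ≤ f * (f - 1) := Nat.mul_le_mul h7 (by omega)
      omega
    interval_cases f <;> omega
  · -- `q ≡ 3 mod 4`
    have hmk : m = k + 1 := by omega
    have hk12 : k ∣ 12 := Dvd.intro _ hki
    have hkle : k ≤ 12 := Nat.le_of_dvd (by norm_num) hk12
    have hk2 : 2 ≤ k := by omega
    have hk3 : k = 3 := by
      interval_cases k <;> first | rfl | (exfalso; revert hk12; decide) | omega
    subst hk3
    have hi : T.index = 4 := by omega
    rw [hmk, hi] at hC2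
    have h6 : f * (f - 1) = 8 := by
      have h7 : f * (f - 1) * 4 = 32 := by
        calc f * (f - 1) * 4 = f * ((f - 1) * 4) := by ring
          _ = 32 := by rw [hC2]
      omega
    have hf3 : f < 4 := by
      by_contra h7
      push Not at h7
      have : 4 * 3 ≤ f * (f - 1) := Nat.mul_le_mul h7 (by omega)
      omega
    interval_cases f <;> omega

end Sit

end Cfsg.Agent.H310.A4AS
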