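import Cfsg.Agent.H310.A4ASb
import Cfsg.Agent.H384.TwoTransRed
import Cfsg.Agent.S0243
import Cfsg.Agent.S0245
import Cfsg.Agent.S0246
import Cfsg.Agent.S0280
import Cfsg.Agent.S1069
import Cfsg.Agent.S1163
import Cfsg.Agent.HNType.Alt
import Cfsg.Agent.MTwelveType.SylowModel
import Cfsg.Agent.SporadicA.MathieuRecog
import Cfsg.Agent.S0364
import Cfsg.Agent.BiChar.SmallCard

/-!
# 2-transitive groups with two-point stabilizer `A₄`: the almost simple case
-/

set_option autoImplicit false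

namespace Cfsg.Agent.H310.A4AS

open MulAction Subgroup Cfsg.Agent.H384.TwoTrans

universe u v

theorem arith_psl {q d n P : ℕ} (hq : 2 ≤ q) (hd : 3 ≤ d) (hn : n * (q - 1) = q ^ d - 1)
    (hP : Nat.gcd d (q - 1) * ((q - 1) * P) = ∏ i : Fin d, (q ^ d - q ^ (i : ℕ)))
    (h : P ∣ n * ((n - 1) * 12)) : d = 3 ∧ q = 2 := by
  obtain ⟨k, rfl⟩ := Nat.exists_eq_add_of_le hd
  have hprod : ∏ i : Fin (3 + k), (q ^ (3 + k) - q ^ (i : ℕ)) =
      (∏ i ∈ Finset.range 3, (q ^ (3 + k) - q ^ i)) * ∏ i ∈ Finset.range k, (q ^ (3 + k) - q ^ (3 + i)) := by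
    rw [Fin.prod_univ_eq_prod_range (fun i => q ^ (3 + k) - q ^ i), Finset.prod_range_add]
  have hfac : ∀ i j : ℕ, i ≤ j → q ^ i ∣ q ^ j - q ^ i := fun i j hij =>
    Nat.dvd_sub (pow_dvd_pow q hij) dvd_rfl
  have h3 : q ^ 3 ∣ ∏ i ∈ Finset.range 3, (q ^ (3 + k) - q ^ i) := by
    rw [Finset.prod_range_succ, Finset.prod_range_succ]
    have h1 := hfac 1 (3 + k) (by omega)
    have h2 := hfac 2 (3 + k) (by omega)
    have h4 := mul_dvd_mul h1 h2
    rw [← pow_add] at h4
    rw [mul_assoc]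
    exact Dvd.dvd.mul_left h4 _
  have hcq : Nat.Coprime q (q - 1) := by
    rw [Nat.coprime_comm]
    have := Nat.coprime_self_add_right (m := q - 1) (n := 1)
    rw [Nat.sub_add_cancel (by omega)] at this
    exact this.2 (Nat.coprime_one_right _)
  have hcg : Nat.Coprime q (Nat.gcd (3 + k) (q - 1)) := hcq.coprime_dvd_right (Nat.gcd_dvd_right _ _)
  have hkey : ∀ j, q ^ j ∣ ∏ i : Fin (3 + k), (q ^ (3 + k) - q ^ (i : ℕ)) → q ^ j ∣ P := by
    intro j hj
    rw [← hP] at hj
    have h1 := (Nat.Coprime.pow_left j hcg).dvd_of_dvd_mul_left hj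
    exact (Nat.Coprime.pow_left j hcq).dvd_of_dvd_mul_left h1
  -- `n - 1 = q n'` with `n`, `n'` prime to `q`
  obtain ⟨x, hx⟩ : ∃ x, q = x + 2 := ⟨q - 2, by omega⟩
  have hgeo : ∀ j : ℕ, (∑ i ∈ Finset.range j, q ^ i) * (q - 1) = q ^ j - 1 := by
    intro j
    rw [Nat.geomSum_eq hq, Nat.div_mul_cancel]
    have := Nat.sub_dvd_pow_sub_pow q 1 j
    rwa [one_pow] at this
  have hn1 : n = ∑ i ∈ Finset.range (3 + k), q ^ i := by
    apply Nat.eq_of_mul_eq_mul_right (show 0 < q - 1 by omega)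
    rw [hn, hgeo]
  have hn2 : n = q * (∑ i ∈ Finset.range (2 + k), q ^ i) + 1 := by
    rw [hn1, show 3 + k = (2 + k) + 1 by ring, Finset.sum_range_succ', pow_zero, Finset.mul_sum]
    congr 1
    apply Finset.sum_congr rfl
    intro i _
    rw [pow_succ, mul_comm]
  set n' := ∑ i ∈ Finset.range (2 + k), q ^ i with hn'
  have hn3 : n' = q * (∑ i ∈ Finset.range (1 + k), q ^ i) + 1 := by
    rw [hn', show 2 + k = (1 + k) + 1 by ring, Finset.sum_range_succ', pow_zero, Finset.mul_sum]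
    congr 1
    apply Finset.sum_congr rfl
    intro i _
    rw [pow_succ, mul_comm]
  have hc0 : ∀ y : ℕ, Nat.Coprime q (q * y + 1) := fun y => by simp
  have hc1 : Nat.Coprime q n := by rw [hn2]; exact hc0 _
  have hc2 : Nat.Coprime q n' := by rw [hn3]; exact hc0 _
  have hn4 : n - 1 = q * n' := by rw [hn2, Nat.add_sub_cancel]
  have hmain : ∀ j, q ^ (j + 1) ∣ P → q ^ j ∣ 12 := by
    intro j hj
    have h1 := hj.trans h
    have h2 := (Nat.Coprime.pow_left (j + 1) hc1).dvd_of_dvd_mul_left h1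
    rw [hn4, pow_succ', mul_assoc] at h2
    have h4 := Nat.dvd_of_mul_dvd_mul_left (by omega) h2
    exact (Nat.Coprime.pow_left j hc2).dvd_of_dvd_mul_left h4
  have h2 := hmain 2 (hkey 3 (by rw [hprod]; exact Dvd.dvd.mul_right h3 _))
  have hq3 : q < 4 := by
    by_contra hcon
    push Not at hcon
    have h5 := Nat.le_of_dvd (by norm_num) h2
    have : 4 ^ 2 ≤ q ^ 2 := Nat.pow_le_pow_left hcon 2
    omega
  have hq2 : q = 2 := by
    have : q = 2 ∨ q = 3 := by omega
    rcases this with h5 | h5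
    · exact h5
    · rw [h5] at h2
      exact absurd h2 (by decide)
  refine ⟨?_, hq2⟩
  by_contra hk
  have hk1 : 1 ≤ k := by omega
  obtain ⟨l, rfl⟩ := Nat.exists_eq_add_of_le' hk1
  have h6 : q ^ 6 ∣ ∏ i : Fin (3 + (l + 1)), (q ^ (3 + (l + 1)) - q ^ (i : ℕ)) := by
    rw [hprod]
    have h7 := hfac 3 (3 + (l + 1)) (by omega)
    have h9 := Finset.dvd_prod_of_mem (fun i => q ^ (3 + (l + 1)) - q ^ (3 + i))
      (Finset.mem_range.2 (Nat.succ_pos l))
    have h8 := mul_dvd_mul h3 (h7.trans h9)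
    rw [← pow_add] at h8
    exact h8
  have h7 := hmain 5 (hkey 6 h6)
  rw [hq2] at h7
  exact absurd h7 (by decide)

variable {G : Type u} {Ω : Type v} [Group G] [MulAction G Ω] [Finite G] [Finite Ω] {T : Subgroup G}

theorem table (A : AS G Ω T) (H : Sit G Ω) {a b : Ω} (hab : a ≠ b) (hK : Known2 ↥T (Nat.card Ω)) :
    (Nat.card Ω = 6 ∧ Nonempty (G ≃* ↥(alternatingGroup (Fin 6)))) ∨
      (Nat.card Ω = 15 ∧ Nonempty (G ≃* ↥(alternatingGroup (Fin 7)))) := by
  have hTn := A.normal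
  have hTs := A.simple
  by_cases h6 : Nat.card Ω = 6
  · exact Or.inl ⟨h6, H.six hab h6⟩
  have h5 := H.ne_five hab
  have hG := H.card_G hab
  have hd : Nat.card T ∣ Nat.card Ω * ((Nat.card Ω - 1) * 12) := hG ▸ card_subgroup_dvd_card T
  have h11 : Nat.card Ω ≠ 11 := fun h => H.eleven hab h
  generalize hn : Nat.card Ω = n at hK h6 h5 hd h11
  cases hK with
  | alt n hn5 e =>
    exfalso
    obtain ⟨e⟩ := e
    obtain ⟨k, rfl⟩ : ∃ k, n = k + 7 := ⟨n - 7, by omega⟩
    rw [Nat.card_congr e.toEquiv, nat_card_alternatingGroup, Nat.card_eq_fintype_card, Fintype.card_fin] at hd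
    have h2 : (k + 7).factorial = 2 * ((k + 7).factorial / 2) := by
      rw [Nat.mul_div_cancel']
      exact (by norm_num : 2 ∣ Nat.factorial 2).trans (Nat.factorial_dvd_factorial (by omega))
    have h3 : (k + 7).factorial = (k + 7) * ((k + 6) * (k + 5).factorial) := by
      rw [Nat.factorial_succ, Nat.factorial_succ]
    have h4 : (k + 7).factorial ∣ (k + 7) * ((k + 6) * 24) := by
      rw [h2]
      have := Nat.mul_dvd_mul_left 2 hd
      refine this.trans (dvd_of_eq ?_)
      rw [show k + 7 - 1 = k + 6 by omega]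
      ring
    rw [h3] at h4
    have h7 := Nat.dvd_of_mul_dvd_mul_left (by omega) (Nat.dvd_of_mul_dvd_mul_left (by omega) h4)
    have h8 := Nat.le_of_dvd (by norm_num) h7
    have h9 : (5).factorial ≤ (k + 5).factorial := Nat.factorial_le (by omega)
    have h10 : (5).factorial = 120 := rfl
    omega
  | psl F d n hd2 hd24 e hnq =>
    exfalso
    obtain ⟨e⟩ := e
    have hq2 : 2 ≤ Fintype.card F := Fintype.one_lt_card
    rcases Nat.lt_or_ge d 3 with hd3 | hd3
    · have : d = 2 := by omega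
      subst this
      have hq4 := hd24 rfl
      have hnq' : n = Fintype.card F + 1 := by
        apply Nat.eq_of_mul_eq_mul_right (show 0 < Fintype.card F - 1 by omega)
        rw [hnq]
        obtain ⟨x, hx⟩ := Nat.exists_eq_add_of_le (show 1 ≤ Fintype.card F by omega)
        rw [hx]
        have : (1 + x) ^ 2 = (1 + x + 1) * x + 1 := by ring
        rw [this, Nat.add_sub_cancel, Nat.add_sub_cancel_left]
      rcases Nat.even_or_odd (Fintype.card F) with hev | hodd
      · have hP := Cfsg.Agent.SmallSimple.PSLTwoPart.card_psl_two_even hev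
        rw [← Nat.card_congr e.toEquiv] at hP
        obtain ⟨x, hx⟩ := Nat.exists_eq_add_of_le (show 1 ≤ Fintype.card F by omega)
        rw [hP, hnq', hx] at hd
        have e1 : (1 + x) ^ 2 - 1 = x * (x + 2) := by
          have : (1 + x) ^ 2 = x * (x + 2) + 1 := by ring
          omega
        have e2 : (1 + x + 1) * ((1 + x + 1 - 1) * 12) = ((1 + x) * (x + 2)) * 12 := by
          rw [Nat.add_sub_cancel]; ring
        have e3 : (1 + x) * (x * (x + 2)) = ((1 + x) * (x + 2)) * x := by ring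
        rw [e1, e2, e3] at hd
        have h7 := Nat.dvd_of_mul_dvd_mul_left (by positivity) hd
        have h8 := Nat.le_of_dvd (by norm_num) h7
        rw [hx] at hev
        have hx4 : x ≠ 3 := by
          rintro rfl
          apply h5
          rw [hnq', hx]
        have hx3 : 3 ≤ x := by omega
        interval_cases x <;> first | omega | exact absurd h7 (by decide) | exact absurd hev (by decide)
      · exact h6 (hn ▸ H.psl_odd hab hodd hq4 e (hn.trans hnq'))
    · have hP := Cfsg.Agent.S0243.result (F := F) rfl d (by omega)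
      rw [← Nat.card_congr e.toEquiv] at hP
      obtain ⟨h7, h8⟩ := arith_psl hq2 hd3 hnq hP hd
      subst h7
      rw [h8] at hP hnq
      have h9 : n = 7 := by omega
      have h10 : Nat.card T = 168 := by
        have h12 : ∏ i : Fin 3, (2 ^ 3 - 2 ^ (i : ℕ)) = 168 := by decide
        rw [h12] at hP
        have : Nat.gcd 3 (2 - 1) = 1 := by decide
        rw [this] at hP
        omega
      exact H.seven hab (hn.trans h9) hTs h10
  | sp F m n hF hm e hnm =>
    exfalso
    obtain ⟨e⟩ := e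
    have h1 := Cfsg.Agent.S0245.result hF m
    have h2 := Cfsg.Agent.S0246.result hF m (by omega)
    have h3 := Subgroup.card_mul_index (Subgroup.center ↥(Matrix.symplecticGroup (Fin m) F))
    rw [h1, h2] at h3
    have h4 : Nat.gcd 2 (2 - 1) = 1 := by decide
    rw [h4, one_mul] at h3
    have h7 : 2 ^ (m ^ 2) ∣ Nat.card T := by
      rw [Nat.card_congr e.toEquiv]
      exact (Dvd.intro _ rfl : 2 ^ (m ^ 2) ∣ _).trans (dvd_of_eq h3.symm)
    have h8 := h7.trans hd
    have key : ∃ w : ℕ, w % 2 = 1 ∧ n = 2 ^ (m - 1) * w := by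
      obtain ⟨k, rfl⟩ : ∃ k, m = k + 1 := ⟨m - 1, by omega⟩
      have : 1 ≤ 2 ^ k := Nat.one_le_two_pow
      rcases hnm with h | h
      · exact ⟨2 ^ (k + 1) + 1, by rw [pow_succ]; omega, h⟩
      · exact ⟨2 ^ (k + 1) - 1, by rw [pow_succ]; omega, h⟩
    obtain ⟨w, hw, hnw⟩ := key
    obtain ⟨k, rfl⟩ : ∃ k, m = k + 3 := ⟨m - 3, by omega⟩
    have hn2 : n = 4 * (2 ^ k * w) := by
      rw [hnw, show k + 3 - 1 = k + 2 by omega, pow_add]; ring
    have hk0 : 0 < 2 ^ k * w := by
      have : 0 < 2 ^ k := by positivity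
      exact Nat.mul_pos this (by omega)
    have hodd : Odd ((n - 1) * (3 * w)) := by
      rw [Nat.odd_mul, Nat.odd_mul, Nat.odd_iff, Nat.odd_iff, Nat.odd_iff]
      refine ⟨by omega, by norm_num, hw⟩
    have h9 : n * ((n - 1) * 12) = 2 ^ (k + 4) * ((n - 1) * (3 * w)) := by
      conv_lhs => rw [show n * ((n - 1) * 12) = (4 * (2 ^ k * w)) * ((n - 1) * 12) by rw [← hn2]]
      rw [pow_add]
      ring
    rw [h9] at h8
    have h10 : Nat.Coprime (2 ^ ((k + 3) ^ 2)) ((n - 1) * (3 * w)) :=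
      Nat.Coprime.pow_left _ (Nat.coprime_two_left.2 hodd)
    have h12 := h10.dvd_of_dvd_mul_right h8
    have h13 := (Nat.pow_dvd_pow_iff_le_right (by norm_num : 1 < 2)).1 h12
    nlinarith
  | psu F q n hq hF e hnq =>
    exfalso
    obtain ⟨e⟩ := e
    have h1 := Cfsg.Agent.S0280.result hF 3 (by norm_num)
    rw [← Nat.card_congr e.toEquiv] at h1
    simp only [Finset.prod_range_succ, Finset.prod_range_zero] at h1
    norm_num at h1
    obtain ⟨x, rfl⟩ : ∃ x, q = x + 3 := ⟨q - 3, by omega⟩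
    have e0 : (x + 3) ^ 2 - 1 = (x + 2) * (x + 4) := by
      have : (x + 3) ^ 2 = (x + 2) * (x + 4) + 1 := by ring
      omega
    rw [e0] at h1
    have h2 : Nat.gcd 3 (x + 3 + 1) * Nat.card T = ((x + 3) ^ 3 * ((x + 3) ^ 3 + 1)) * ((x + 2) * (x + 4)) := by
      apply Nat.eq_of_mul_eq_mul_left (show 0 < x + 3 + 1 by omega)
      calc (x + 3 + 1) * (Nat.gcd 3 (x + 3 + 1) * Nat.card T) = Nat.gcd 3 (x + 3 + 1) * ((x + 3 + 1) * Nat.card T) := by ring
        _ = _ := h1
        _ = _ := by ring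
    have h3 : Nat.gcd 3 (x + 3 + 1) * Nat.card T ∣ ((x + 3) ^ 3 * ((x + 3) ^ 3 + 1)) * 36 := by
      refine (mul_dvd_mul (Nat.gcd_dvd_left 3 (x + 3 + 1)) hd).trans (dvd_of_eq ?_)
      rw [hnq, Nat.add_sub_cancel]; ring
    rw [h2] at h3
    have h4 := Nat.dvd_of_mul_dvd_mul_left (by positivity) h3
    have h7 := Nat.le_of_dvd (by norm_num) h4
    have hx : x < 4 := by
      by_contra hcon
      push Not at hcon
      have : 6 * 8 ≤ (x + 2) * (x + 4) := Nat.mul_le_mul (by omega) (by omega)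
      omega
    interval_cases x <;> exact absurd h4 (by decide)
  | sz F m n hm hF e hnq =>
    exfalso
    obtain ⟨e⟩ := e
    have h1 := (Cfsg.Agent.S1163.result hm hF).1
    rw [← Nat.card_congr e.toEquiv] at h1
    rw [hF] at hnq
    have hq8 : 8 ≤ 2 ^ (2 * m + 1) := by
      calc 8 = 2 ^ 3 := rfl
        _ ≤ _ := Nat.pow_le_pow_right (by norm_num) (by omega)
    have hq2 : 2 ^ (2 * m + 1) % 2 = 0 := by rw [pow_succ]; omega
    generalize 2 ^ (2 * m + 1) = q at *
    obtain ⟨x, rfl⟩ : ∃ x, q = x + 8 := ⟨q - 8, by omega⟩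
    rw [h1, hnq, Nat.add_sub_cancel] at hd
    have h2 : ((x + 8) ^ 2 * ((x + 8) ^ 2 + 1)) * (x + 7) ∣ ((x + 8) ^ 2 * ((x + 8) ^ 2 + 1)) * 12 := by
      refine (dvd_of_eq ?_).trans (hd.trans (dvd_of_eq (by ring)))
      rw [show x + 8 - 1 = x + 7 by omega]; ring
    have h3 := Nat.dvd_of_mul_dvd_mul_left (by positivity) h2
    have h4 := Nat.le_of_dvd (by norm_num) h3
    have h7 : x ≤ 5 := by omega
    clear h1 hq8 hF
    have h8 : x = 0 ∨ x = 2 ∨ x = 4 := by omega
    rcases h8 with rfl | rfl | rfl <;> exact absurd h3 (by decide)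
  | ree F m n hm hF e hnq =>
    exfalso
    obtain ⟨e⟩ := e
    have h1 := Cfsg.Agent.S1069.result hF
    rw [← Nat.card_congr e.toEquiv] at h1
    rw [hF] at hnq
    have hq8 : 27 ≤ 3 ^ (2 * m + 1) := by
      calc 27 = 3 ^ 3 := rfl
        _ ≤ _ := Nat.pow_le_pow_right (by norm_num) (by omega)
    generalize 3 ^ (2 * m + 1) = q at *
    obtain ⟨x, rfl⟩ : ∃ x, q = x + 27 := ⟨q - 27, by omega⟩
    rw [h1, hnq, Nat.add_sub_cancel] at hd
    have h2 : ((x + 27) ^ 3 * ((x + 27) ^ 3 + 1)) * (x + 26) ∣ ((x + 27) ^ 3 * ((x + 27) ^ 3 + 1)) * 12 := by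
      refine (dvd_of_eq ?_).trans (hd.trans (dvd_of_eq (by ring)))
      rw [show x + 27 - 1 = x + 26 by omega]; ring
    have h3 := Nat.dvd_of_mul_dvd_mul_left (by positivity) h2
    have h4 := Nat.le_of_dvd (by norm_num) h3
    omega
  | psl2_8 F hF e =>
    exfalso
    obtain ⟨e⟩ := e
    have hP := Cfsg.Agent.SmallSimple.PSLTwoPart.card_psl_two_even (F := F) (by rw [hF]; decide)
    rw [← Nat.card_congr e.toEquiv, hF] at hP
    exact H.twenty_eight (a := a) hn A.transitive hP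
  | psl2_9 F hF e => exact absurd rfl h6
  | psl2_11 F hF e => exact absurd rfl h11
  | psl4_2 F hF e =>
    exfalso
    obtain ⟨e⟩ := e
    have hP := Cfsg.Agent.S0243.result (F := F) rfl 4 (by omega)
    rw [← Nat.card_congr e.toEquiv, hF] at hP
    have h12 : ∏ i : Fin 4, (2 ^ 4 - 2 ^ (i : ℕ)) = 20160 := by decide
    rw [h12] at hP
    have : Nat.gcd 4 (2 - 1) = 1 := by decide
    rw [this, one_mul, show 2 - 1 = 1 from rfl, one_mul] at hP
    rw [hP] at hd
    exact absurd hd (by decide)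
  | a7 e =>
    right
    obtain ⟨e⟩ := e
    refine ⟨rfl, ?_⟩
    rw [hn] at hG
    have h1 : Nat.card T = 2520 := by
      rw [Nat.card_congr e.toEquiv, nat_card_alternatingGroup, Nat.card_eq_fintype_card, Fintype.card_fin]
      rfl
    have h2 : T = ⊤ := Subgroup.eq_top_of_card_eq _ (by rw [h1, hG])
    exact ⟨(Subgroup.topEquiv.symm.trans (MulEquiv.subgroupCongr h2.symm)).trans e⟩
  | m11 h => exact absurd rfl h11
  | m11' h =>
    rw [Cfsg.Agent.BiChar.Small.card_of_iso h Cfsg.Agent.HNType.Alt.card_M11] at hd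
    exact absurd hd (by decide)
  | m12 h =>
    rw [Cfsg.Agent.BiChar.Small.card_of_iso h Cfsg.Agent.MTwelveType.SylowModel.card_M12] at hd
    exact absurd hd (by decide)
  | m22 h =>
    rw [Cfsg.Agent.BiChar.Small.card_of_iso h Cfsg.Agent.SporadicA.MathieuRecog.card_M22] at hd
    exact absurd hd (by decide)
  | m23 h =>
    rw [Cfsg.Agent.BiChar.Small.card_of_iso h Cfsg.Agent.SporadicA.MathieuRecog.card_M23] at hd
    exact absurd hd (by decide)
  | m24 h =>
    rw [Cfsg.Agent.BiChar.Small.card_of_iso h Cfsg.Agent.S0364.result] at hd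
    exact absurd hd (by decide)
  | hs h =>
    rw [Cfsg.Agent.BiChar.Small.card_of_iso h Cfsg.Agent.BiChar.Small.card_HS] at hd
    exact absurd hd (by decide)
  | co3 h =>
    rw [Cfsg.Agent.BiChar.Small.card_of_isoCo3 h] at hd
    exact absurd hd (by decide)

end Cfsg.Agent.H310.A4AS
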