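import Cfsg.Agent.H310.A4AS
import Cfsg.Agent.SmallSimple.SylowCount
import Cfsg.Agent.TwoFusion.DihedralFusion

/-!
# 2-transitive groups with two-point stabilizer `A₄`: degrees 7, 11, 28
-/

set_option autoImplicit false

namespace Cfsg.Agent.H310.A4AS

open MulAction Subgroup Cfsg.Agent.H310.A4Act Cfsg.Agent.H310.VSyl Cfsg.Agent.TwoFusion.DihedralFusion

universe u v

/-- an alternating group of degree 7 has no subgroup of index 5 -/
theorem no_index_five (S : Subgroup ↥(alternatingGroup (Fin 7))) : S.index ≠ 5 := by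
  intro h
  have hs : IsSimpleGroup ↥(alternatingGroup (Fin 7)) := alternatingGroup.isSimpleGroup (by
    rw [Nat.card_eq_fintype_card, Fintype.card_fin]; norm_num)
  have hne : S ≠ ⊤ := by
    rintro rfl
    rw [index_top] at h
    omega
  have h1 := Cfsg.Agent.SmallSimple.SylowCount.card_dvd_factorial_index S hne
  rw [h, nat_card_alternatingGroup, Nat.card_eq_fintype_card, Fintype.card_fin] at h1
  revert h1
  decide

namespace Sit

variable {G : Type u} {Ω : Type v} [Group G] [MulAction G Ω] [Finite G] [Finite Ω] (H : Sit G Ω)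
include H

variable {T : Subgroup G} [hT : T.Normal]

theorem seven {a b : Ω} (hab : a ≠ b) (hn : Nat.card Ω = 7) (hs : IsSimpleGroup T) (hc : Nat.card T = 168) : False := by
  have h1 := H.card_G hab
  rw [hn] at h1
  let eΩ : Ω ≃ Fin 7 := (Finite.equivFin Ω).trans (finCongr hn)
  let f : G →* Equiv.Perm (Fin 7) := (eΩ.permCongrHom).toMonoidHom.comp (MulAction.toPermHom G Ω)
  have hf : Function.Injective f := (eΩ.permCongrHom).injective.comp H.perm_injective
  let σ : G →* ℤˣ := Equiv.Perm.sign.comp f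
  have hTσ : T ≤ σ.ker := by
    have hker : (σ.comp T.subtype).ker = ⊤ := by
      rcases hs.eq_bot_or_eq_top_of_normal (σ.comp T.subtype).ker inferInstance with h | h
      · exfalso
        have h2 := Nat.card_le_card_of_injective _ ((MonoidHom.ker_eq_bot_iff _).1 h)
        rw [hc, Nat.card_eq_fintype_card] at h2
        revert h2
        decide
      · exact h
    intro x hx
    have : (⟨x, hx⟩ : T) ∈ (σ.comp T.subtype).ker := by rw [hker]; exact mem_top _
    exact this
  have hidx := T.card_mul_index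
  rw [hc, h1] at hidx
  have hi3 : T.index = 3 := by omega
  have h3 : σ.ker.index ∣ 3 := hi3 ▸ index_dvd_of_le hTσ
  have h4 : σ.ker.index ≤ 2 := by
    rw [index_ker]
    have h5 : Nat.card σ.range ≤ Nat.card ℤˣ := Nat.card_le_card_of_injective _ σ.range.subtype_injective
    have h6 : Nat.card ℤˣ = 2 := by rw [Nat.card_eq_fintype_card]; rfl
    omega
  have h5 : σ.ker.index = 1 := by
    rcases (Nat.dvd_prime Nat.prime_three).1 h3 with h | h
    · exact h
    · omega
  rw [index_eq_one] at h5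
  have h6 : f.range ≤ alternatingGroup (Fin 7) := by
    rintro _ ⟨g, rfl⟩
    have : g ∈ σ.ker := by rw [h5]; exact mem_top g
    exact Equiv.Perm.mem_alternatingGroup.2 this
  have h7 : Nat.card f.range = 504 := by
    rw [Nat.card_congr (MonoidHom.ofInjective hf).symm.toEquiv, h1]
  have h8 := (f.range.subgroupOf (alternatingGroup (Fin 7))).card_mul_index
  rw [Nat.card_congr (subgroupOfEquivOfLe h6).toEquiv, h7, nat_card_alternatingGroup, Nat.card_eq_fintype_card,
    Fintype.card_fin] at h8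
  have h9 : (7).factorial / 2 = 2520 := rfl
  rw [h9] at h8
  exact no_index_five (f.range.subgroupOf (alternatingGroup (Fin 7))) (by omega)

/-- a second involution -/
theorem exists_second {a b : Ω} (hab : a ≠ b) {t : G} (ht : t ≠ 1) (htt : t * t = 1) (hta : t • a = a) (htb : t • b = b) :
    ∃ s : G, s ≠ 1 ∧ s * s = 1 ∧ s ≠ t ∧ t * s = s * t ∧ s • a = a ∧ s • b = b := by
  obtain ⟨e⟩ := H.st a b hab
  have h4 := four e
  have : ∃ s : ↥(stabilizer G a ⊓ stabilizer G b), s * s = 1 ∧ s ≠ 1 ∧ s ≠ ⟨t, hta, htb⟩ := by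
    by_contra hcon
    push Not at hcon
    have h5 : ({y : ↥(stabilizer G a ⊓ stabilizer G b) | y * y = 1}) ⊆ {1, ⟨t, hta, htb⟩} := by
      intro x hx
      by_cases hx1 : x = 1
      · exact Or.inl hx1
      · exact Or.inr (hcon x hx hx1)
    have h6 := Set.ncard_le_ncard h5
    have h7 : ({y : ↥(stabilizer G a ⊓ stabilizer G b) | y * y = 1}).ncard = 4 := h4
    rw [h7] at h6
    have h8 : ({1, ⟨t, hta, htb⟩} : Set ↥(stabilizer G a ⊓ stabilizer G b)).ncard ≤ 2 := by
      refine (Set.ncard_insert_le _ _).trans ?_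
      rw [Set.ncard_singleton]
    omega
  obtain ⟨s, hss, hs1, hst⟩ := this
  have hc := A4Act.comm e (x := ⟨t, hta, htb⟩) s (fun h => ht (congrArg Subtype.val h)) (Subtype.ext htt)
  exact ⟨s, fun h => hs1 (Subtype.ext h), congrArg Subtype.val hss, fun h => hst (Subtype.ext h),
    (congrArg Subtype.val (hc.2 hss)).symm, s.2.1, s.2.2⟩

theorem twenty_eight {a : Ω} (hn : Nat.card Ω = 28) (htr : IsPretransitive T Ω) (hc : Nat.card T = 504) : False := by
  have : Fact (Nat.Prime 2) := ⟨Nat.prime_two⟩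
  have h1 := card_orbit T (Set.univ : Set Ω) a (by
    rw [Set.eq_univ_iff_forall]
    intro x
    exact MulAction.exists_smul_eq T a x)
  rw [Set.ncard_univ, hn, hc] at h1
  have h18 : Nat.card ↥(T ⊓ stabilizer G a) = 18 := by omega
  obtain ⟨t, ht⟩ := exists_prime_orderOf_dvd_card' (G := ↥(T ⊓ stabilizer G a)) 2 (by rw [h18]; norm_num)
  have ht1 : (t : G) ≠ 1 := by
    intro h
    have : t = 1 := Subtype.ext h
    rw [this, orderOf_one] at ht
    omega
  have htt : (t : G) * t = 1 := by
    have h2 := pow_orderOf_eq_one t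
    rw [ht, pow_two] at h2
    exact congrArg Subtype.val h2
  have hta : (t : G) • a = a := t.2.2
  have hmod := fix_mod (Ω := Ω) htt
  rw [hn] at hmod
  obtain ⟨b, hb, hab⟩ : ∃ b, (t : G) • b = b ∧ a ≠ b := by
    by_contra hcon
    push Not at hcon
    have h2 : {x : Ω | (t : G) • x = x} = {a} := by
      ext x
      constructor
      · intro hx
        exact (hcon x hx).symm
      · rintro rfl
        exact hta
    rw [h2, Set.ncard_singleton] at hmod
    omega
  obtain ⟨s, hs1, hss, hst, hcm, hsa, hsb⟩ := H.exists_second hab ht1 htt hta hb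
  have hsT : s ∈ T := H.mem_of_ne_bot hab t.2.1 ht1 hta hb hs1 hss hsa hsb
  have hle : fourGroup (t : G) s htt hss hcm ≤ T ⊓ stabilizer G a := fourGroup_le _ _ _ t.2 ⟨hsT, hsa⟩
  have h2 := card_dvd_of_le hle
  rw [(isKleinFour_fourGroup htt hss hcm ht1 hs1 hst.symm).card_four, h18] at h2
  revert h2
  decide

theorem sq_mem {x y : Ω} (hxy : x ≠ y) {t s : G} (htt : t * t = 1) (hss : s * s = 1) (hcm : t * s = s * t)
    (ht1 : t ≠ 1) (hs1 : s ≠ 1) (hst : t ≠ s) (htx : t • x = x) (hty : t • y = y) (hsx : s • x = x) (hsy : s • y = y)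
    {z : G} (hzx : z • x = x) (hzy : z • y = y) (hz : z * z = 1) : z ∈ fourGroup t s htt hss hcm := by
  obtain ⟨e⟩ := H.st x y hxy
  have h4 := four e
  have hK := (isKleinFour_fourGroup htt hss hcm ht1 hs1 hst).card_four
  have hle : fourGroup t s htt hss hcm ≤ stabilizer G x ⊓ stabilizer G y :=
    fourGroup_le _ _ _ ⟨htx, hty⟩ ⟨hsx, hsy⟩
  have h1 : (((fourGroup t s htt hss hcm).subgroupOf (stabilizer G x ⊓ stabilizer G y) :
      Subgroup ↥(stabilizer G x ⊓ stabilizer G y)) : Set ↥(stabilizer G x ⊓ stabilizer G y)) =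
      {w | w * w = 1} := by
    apply Set.eq_of_subset_of_ncard_le
    · intro w hw
      exact Subtype.ext (sq_of_mem_fourGroup htt hss hcm hw)
    · have h5 : ({w : ↥(stabilizer G x ⊓ stabilizer G y) | w * w = 1}).ncard = 4 := h4
      rw [h5]
      have h6 : Nat.card ((fourGroup t s htt hss hcm).subgroupOf (stabilizer G x ⊓ stabilizer G y)) = 4 := by
        rw [Nat.card_congr (subgroupOfEquivOfLe hle).toEquiv, hK]
      exact h6.ge
    · exact Set.toFinite _
  have h2 : (⟨z, hzx, hzy⟩ : ↥(stabilizer G x ⊓ stabilizer G y)) ∈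
      (((fourGroup t s htt hss hcm).subgroupOf (stabilizer G x ⊓ stabilizer G y) :
      Subgroup ↥(stabilizer G x ⊓ stabilizer G y)) : Set ↥(stabilizer G x ⊓ stabilizer G y)) := by
    rw [h1]
    exact Subtype.ext hz
  exact h2

/-- the normalizer of the four-group -/
theorem card_normalizer {a b : Ω} (hab : a ≠ b) {t s : G} (htt : t * t = 1) (hss : s * s = 1) (hcm : t * s = s * t)
    (ht1 : t ≠ 1) (hs1 : s ≠ 1) (hst : t ≠ s) (hta : t • a = a) (htb : t • b = b) (hsa : s • a = a) (hsb : s • b = b) :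
    Nat.card (normalizer ((fourGroup t s htt hss hcm : Subgroup G) : Set G)) =
      {x : Ω | t • x = x ∧ s • x = x}.ncard * (({x : Ω | t • x = x ∧ s • x = x}.ncard - 1) * 12) := by
  set V := fourGroup t s htt hss hcm with hV
  have hmove : ∀ x y : Ω, x ≠ y → (t • x = x ∧ s • x = x) → (t • y = y ∧ s • y = y) →
      ∀ x' y' : Ω, x' ≠ y' → (t • x' = x' ∧ s • x' = x') → (t • y' = y' ∧ s • y' = y') →
      ∃ g ∈ normalizer (V : Set G), g • x = x' ∧ g • y = y' := by
    intro x y hxy hx hy x' y' hxy' hx' hy'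
    obtain ⟨g, hg, hg'⟩ := H.two x y x' y' hxy hxy'
    refine ⟨g, ?_, hg, hg'⟩
    refine Subgroup.mem_normalizer_fintype fun z hz => ?_
    have hzz : z * z = 1 := sq_of_mem_fourGroup htt hss hcm hz
    have hzf : ∀ w : Ω, t • w = w → s • w = w → z • w = w := by
      intro w h1 h2
      rcases hz with rfl | rfl | rfl | rfl
      · exact one_smul _ _
      · exact h1
      · exact h2
      · rw [mul_smul, h2, h1]
    refine H.sq_mem hxy' htt hss hcm ht1 hs1 hst hx'.1 hy'.1 hx'.2 hy'.2 ?_ ?_ ?_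
    · rw [mul_smul, mul_smul, inv_smul_eq_iff.2 hg.symm, hzf x hx.1 hx.2, hg]
    · rw [mul_smul, mul_smul, inv_smul_eq_iff.2 hg'.symm, hzf y hy.1 hy.2, hg']
    · rw [show g * z * g⁻¹ * (g * z * g⁻¹) = g * (z * z) * g⁻¹ by group, hzz, mul_one, mul_inv_cancel]
  have hfix : ∀ g ∈ normalizer (V : Set G), ∀ x : Ω, (t • x = x ∧ s • x = x) → (t • g • x = g • x ∧ s • g • x = g • x) := by
    intro g hg x hx
    have h1 : ∀ z ∈ V, z • g • x = g • x := by
      intro z hz
      have h2 : g⁻¹ * z * g ∈ V := (Subgroup.mem_normalizer_iff''.1 hg z).1 hz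
      have h3 : (g⁻¹ * z * g) • x = x := by
        rcases h2 with h | h | h | h
        · rw [h, one_smul]
        · rw [h, hx.1]
        · rw [h, hx.2]
        · rw [h, mul_smul, hx.2, hx.1]
      calc z • g • x = g • ((g⁻¹ * z * g) • x) := by
            rw [← mul_smul, ← mul_smul]; congr 1; group
        _ = g • x := by rw [h3]
    exact ⟨h1 t (left_mem_fourGroup _ _ _), h1 s (right_mem_fourGroup _ _ _)⟩
  have h1 := card_orbit (normalizer (V : Set G)) {x : Ω | t • x = x ∧ s • x = x} a (by
    ext x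
    constructor
    · rintro ⟨⟨g, hg⟩, rfl⟩
      exact hfix g hg a ⟨hta, hsa⟩
    · intro hx
      by_cases hxa : x = a
      · exact ⟨1, by rw [hxa]; exact one_smul _ _⟩
      · obtain ⟨g, hg, -, hg'⟩ := hmove b a hab.symm ⟨htb, hsb⟩ ⟨hta, hsa⟩ a x (Ne.symm hxa) ⟨hta, hsa⟩ hx
        exact ⟨⟨g, hg⟩, hg'⟩)
  have h2 := card_orbit (normalizer (V : Set G) ⊓ stabilizer G a) ({x : Ω | t • x = x ∧ s • x = x} \ {a}) b (by
    ext x
    rw [Set.mem_sdiff, Set.mem_singleton_iff]
    constructor
    · rintro ⟨⟨g, hg, hga⟩, rfl⟩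
      refine ⟨hfix g hg b ⟨htb, hsb⟩, ?_⟩
      intro h
      apply hab
      have h3 : g • b = g • a := by
        rw [show g • a = a from hga]
        exact h
      exact (smul_left_cancel g h3).symm
    · rintro ⟨hx, hxa⟩
      obtain ⟨g, hg, hg', hg''⟩ := hmove a b hab ⟨hta, hsa⟩ ⟨htb, hsb⟩ a x (Ne.symm hxa) ⟨hta, hsa⟩ hx
      exact ⟨⟨g, hg, hg'⟩, hg''⟩)
  have h3 : normalizer (V : Set G) ⊓ stabilizer G a ⊓ stabilizer G b = stabilizer G a ⊓ stabilizer G b := by
    rw [inf_assoc, inf_eq_right]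
    intro g hg
    refine Subgroup.mem_normalizer_fintype fun z hz => ?_
    have hzz : z * z = 1 := sq_of_mem_fourGroup htt hss hcm hz
    have hzf : ∀ w : Ω, t • w = w → s • w = w → z • w = w := by
      intro w h1 h2
      rcases hz with rfl | rfl | rfl | rfl
      · exact one_smul _ _
      · exact h1
      · exact h2
      · rw [mul_smul, h2, h1]
    have hga : g • a = a := hg.1
    have hgb : g • b = b := hg.2
    refine H.sq_mem hab htt hss hcm ht1 hs1 hst hta htb hsa hsb ?_ ?_ ?_
    · rw [mul_smul, mul_smul, inv_smul_eq_iff.2 hga.symm, hzf a hta hsa, hga]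
    · rw [mul_smul, mul_smul, inv_smul_eq_iff.2 hgb.symm, hzf b htb hsb, hgb]
    · rw [show g * z * g⁻¹ * (g * z * g⁻¹) = g * (z * z) * g⁻¹ by group, hzz, mul_one, mul_inv_cancel]
  rw [h3, H.card_ab hab, Set.ncard_sdiff_singleton_of_mem (by exact ⟨hta, hsa⟩)] at h2
  rw [h1, h2]

theorem eleven {a b : Ω} (hab : a ≠ b) (hn : Nat.card Ω = 11) : False := by
  have hG := H.card_G hab
  rw [hn] at hG
  obtain ⟨t, ht, htt, hta, htb⟩ := H.exists_inv hab
  have hc := H.card_centralizer hab ht htt hta htb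
  have hmod := fix_mod (Ω := Ω) htt
  rw [hn] at hmod
  have hdvd := card_subgroup_dvd_card (centralizer ({t} : Set G))
  rw [hc, hG] at hdvd
  have hle : {x : Ω | t • x = x}.ncard ≤ 11 := by rw [← hn]; exact Set.ncard_le_card _
  have hne : {x : Ω | t • x = x}.ncard ≠ 11 := by
    intro h
    apply ht
    apply H.ff
    intro x
    have h1 : {x : Ω | t • x = x} = Set.univ := by
      apply Set.eq_of_subset_of_ncard_le (Set.subset_univ _)
      rw [Set.ncard_univ, hn, h]
    have : x ∈ {x : Ω | t • x = x} := by rw [h1]; exact Set.mem_univ x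
    exact this
  have hge : 2 ≤ {x : Ω | t • x = x}.ncard := by
    have h1 : ({a, b} : Set Ω) ⊆ {x : Ω | t • x = x} := by
      rintro x (rfl | rfl)
      · exact hta
      · exact htb
    have h2 := Set.ncard_le_ncard h1
    rwa [Set.ncard_pair hab] at h2
  have h3 : {x : Ω | t • x = x}.ncard = 3 := by
    generalize {x : Ω | t • x = x}.ncard = f at *
    clear hc hG
    have : f = 3 ∨ f = 5 ∨ f = 7 ∨ f = 9 := by omega
    rcases this with rfl | rfl | rfl | rfl
    · rfl
    · exact absurd hdvd (by decide)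
    · exact absurd hdvd (by decide)
    · exact absurd hdvd (by decide)
  obtain ⟨s, hs1, hss, hst, hcm, hsa, hsb⟩ := H.exists_second hab ht htt hta htb
  have hV : {x : Ω | t • x = x ∧ s • x = x} = {x : Ω | t • x = x} := by
    ext x
    refine ⟨fun h => h.1, fun hx => ⟨hx, ?_⟩⟩
    have hx' : t • x = x := hx
    by_contra hsx
    have hxa : x ≠ a := fun h => hsx (by rw [h]; exact hsa)
    have hxb : x ≠ b := fun h => hsx (by rw [h]; exact hsb)
    have hsxa : s • x ≠ a := fun h => hxa (smul_left_cancel s (h.trans hsa.symm))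
    have hsxb : s • x ≠ b := fun h => hxb (smul_left_cancel s (h.trans hsb.symm))
    have h4 : ({s • x, x, a, b} : Set Ω) ⊆ {x : Ω | t • x = x} := by
      rintro y (rfl | rfl | rfl | rfl)
      · change t • s • x = s • x
        rw [← mul_smul, hcm, mul_smul, hx']
      · exact hx'
      · exact hta
      · exact htb
    have h5 := Set.ncard_le_ncard h4
    rw [h3, Set.ncard_insert_of_notMem, Set.ncard_insert_of_notMem, Set.ncard_pair hab] at h5
    · omega
    · rintro (h | h)
      · exact hxa h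
      · exact hxb h
    · rintro (h | h | h)
      · exact hsx h
      · exact hsxa h
      · exact hsxb h
  have hN := H.card_normalizer hab htt hss hcm ht hs1 hst.symm hta htb hsa hsb
  rw [hV, h3] at hN
  have h6 := card_subgroup_dvd_card (normalizer ((fourGroup t s htt hss hcm : Subgroup G) : Set G))
  rw [hN, hG] at h6
  revert h6
  decide

end Sit

end Cfsg.Agent.H310.A4AS
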