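import Cfsg.Agent.H310.A4Affine
import Cfsg.Agent.H310.A4ASTable

/-!
# 2-transitive groups with two-point stabilizer `A₄`: the theorem modulo the classification of 2-transitive groups

`core` : S3219 from the list `Known2` of the 2-transitive groups with non-abelian socle (HUB H1).
-/

set_option autoImplicit false

namespace Cfsg.Agent.H310.A4Core

open MulAction Subgroup Cfsg.Agent.H384.TwoTrans

universe u v

theorem core {G : Type u} [Group G] [Finite G] {Ω : Type v} [Fintype Ω] [MulAction G Ω] [FaithfulSMul G Ω]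
    (hmain : ∀ T : Subgroup G, AS G Ω T → Known2 ↥T (Nat.card Ω))
    (h2 : MulAction.IsMultiplyPretransitive G Ω 2) (a b : Ω) (hab : a ≠ b)
    (e : ↥(MulAction.stabilizer G a ⊓ MulAction.stabilizer G b) ≃* ↥(alternatingGroup (Fin 4))) :
    (Fintype.card Ω = 6 ∧ Nonempty (G ≃* ↥(alternatingGroup (Fin 6)))) ∨ (Fintype.card Ω = 15 ∧ Nonempty (G ≃* ↥(alternatingGroup (Fin 7)))) ∨
      (Fintype.card Ω = 16 ∧ ∃ (F : Type) (_ : Field F) (_ : Fintype F), Fintype.card F = 4 ∧
        Nonempty (G ≃* ((Fin 2 → F) ≃ᵃ[F] (Fin 2 → F)))) ∨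
      (∃ J : G, orderOf J = 2 ∧ Subgroup.centralizer ({J} : Set G) ⊔ Cfsg.oddCore G = ⊤) := by
  have htwo : ∀ a b c d : Ω, a ≠ b → c ≠ d → ∃ g : G, g • a = c ∧ g • b = d := fun a b c d hab hcd =>
    two_pts h2 a b c d hab hcd
  have H : A4AS.Sit G Ω := A4AS.Sit.mk' (fun g hg => FaithfulSMul.eq_of_smul_eq_smul (α := Ω) (fun x => by
    rw [hg, one_smul])) htwo a b hab e
  have hG := H.card_G hab
  have h3 : 3 ≤ Nat.card Ω := by
    by_contra hcon
    push Not at hcon
    have hnt : Nontrivial Ω := ⟨a, b, hab⟩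
    have h4 : Nat.card Ω = 2 := by
      have := Finite.one_lt_card_iff_nontrivial.2 hnt
      omega
    have h5 := Nat.card_le_card_of_injective _ H.perm_injective
    rw [Nat.card_perm, hG, h4] at h5
    revert h5
    decide
  rw [← Nat.card_eq_fintype_card]
  rcases reduction h2 h3 with ⟨N, hN, -, hNc, ⟨p, hp, hNp⟩, htr, hreg⟩ | ⟨T, A⟩
  · rcases A4Affine.affine_case htwo a b hab e N hN
      (fun x hx y hy => congrArg Subtype.val (hNc.is_comm.comm (⟨x, hx⟩ : N) ⟨y, hy⟩)) p hp hNp htr hreg with h | h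
    · exact Or.inr (Or.inr (Or.inl h))
    · exact Or.inr (Or.inr (Or.inr h))
  · rcases A4AS.table A H hab (hmain T A) with h | h
    · exact Or.inl h
    · exact Or.inr (Or.inl h)

end Cfsg.Agent.H310.A4Core
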