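import Cfsg.Agent.H310.VSyl
import Cfsg.Agent.H310.A4Act

/-!
# 2-transitive groups with two-point stabilizer `A₄`: counting
-/

set_option autoImplicit false

namespace Cfsg.Agent.H310.A4AS

open MulAction Subgroup Cfsg.Agent.H310.A4Act Cfsg.Agent.H310.VSyl

universe u v

theorem a4_normal : ∀ x : A4, x * x ≠ 1 → ∃ v : A4, x * v * x⁻¹ * v⁻¹ ≠ 1 ∧
    x * v * x⁻¹ * v⁻¹ * (x * v * x⁻¹ * v⁻¹) = 1 := by
  decide +kernel

/-- a nontrivial normal subgroup of `A₄` contains the involutions -/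
theorem normal_mem {C : Type*} [Group C] (e : C ≃* A4) (X : Subgroup C) [X.Normal] {x t : C} (hx : x ∈ X) (hx1 : x ≠ 1)
    (ht : t ≠ 1) (htt : t * t = 1) : t ∈ X := by
  have key : ∀ y ∈ X, y ≠ 1 → y * y = 1 → t ∈ X := by
    intro y hy hy1 hyy
    obtain ⟨g, hg⟩ := A4Act.conj e hy1 hyy ht htt
    rw [← hg]
    exact (inferInstance : X.Normal).conj_mem y hy g
  by_cases hxx : x * x = 1
  · exact key x hx hx1 hxx
  · obtain ⟨v, h1, h2⟩ := a4_normal (e x) (by
      intro h
      apply hxx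
      apply e.injective
      rw [map_mul, h, map_one])
    have h3 : e (x * e.symm v * x⁻¹ * (e.symm v)⁻¹) = e x * v * (e x)⁻¹ * v⁻¹ := by
      simp
    refine key (x * e.symm v * x⁻¹ * (e.symm v)⁻¹) ?_ ?_ ?_
    · rw [mul_assoc, mul_assoc, ← mul_assoc (e.symm v)]
      exact mul_mem hx ((inferInstance : X.Normal).conj_mem _ (inv_mem hx) _)
    · intro h
      rw [h, map_one] at h3
      exact h1 h3.symm
    · apply e.injective
      rw [map_mul, h3, h2, map_one]

/-- the situation -/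
structure Sit (G : Type u) (Ω : Type v) [Group G] [MulAction G Ω] : Prop where
  ff : ∀ g : G, (∀ x : Ω, g • x = x) → g = 1
  two : ∀ a b c d : Ω, a ≠ b → c ≠ d → ∃ g : G, g • a = c ∧ g • b = d
  st : ∀ a b : Ω, a ≠ b → Nonempty (↥(stabilizer G a ⊓ stabilizer G b) ≃* A4)

theorem Sit.mk' {G : Type u} {Ω : Type v} [Group G] [MulAction G Ω]
    (ff : ∀ g : G, (∀ x : Ω, g • x = x) → g = 1)
    (two : ∀ a b c d : Ω, a ≠ b → c ≠ d → ∃ g : G, g • a = c ∧ g • b = d) (a b : Ω) (hab : a ≠ b)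
    (e : ↥(stabilizer G a ⊓ stabilizer G b) ≃* A4) : Sit G Ω := by
  refine ⟨ff, two, fun c d hcd => ?_⟩
  obtain ⟨g, hg, hg'⟩ := two c d a b hcd hab
  have e1 : ↥(stabilizer G c ⊓ stabilizer G d) ≃* ↥(stabilizer G a ⊓ stabilizer G b) :=
    { toFun := fun k => ⟨g * k * g⁻¹, by
          have hk : (k : G) • c = c := k.2.1
          have hk' : (k : G) • d = d := k.2.2
          rw [Subgroup.mem_inf, mem_stabilizer_iff, mem_stabilizer_iff]
          constructor
          · rw [mul_smul, mul_smul, inv_smul_eq_iff.2 hg.symm, hk, hg]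
          · rw [mul_smul, mul_smul, inv_smul_eq_iff.2 hg'.symm, hk', hg']⟩
      invFun := fun k => ⟨g⁻¹ * k * g, by
          have hk : (k : G) • a = a := k.2.1
          have hk' : (k : G) • b = b := k.2.2
          rw [Subgroup.mem_inf, mem_stabilizer_iff, mem_stabilizer_iff]
          constructor
          · rw [mul_smul, mul_smul, hg, hk, inv_smul_eq_iff, hg]
          · rw [mul_smul, mul_smul, hg', hk', inv_smul_eq_iff, hg']⟩
      left_inv := fun k => Subtype.ext (by
        change g⁻¹ * (g * _ * g⁻¹) * g = _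
        group)
      right_inv := fun k => Subtype.ext (by
        change g * (g⁻¹ * _ * g) * g⁻¹ = _
        group)
      map_mul' := fun k l => Subtype.ext (by
        change g * (_ * _) * g⁻¹ = (g * _ * g⁻¹) * (g * _ * g⁻¹)
        group) }
  exact ⟨e1.trans e⟩

namespace Sit

variable {G : Type u} {Ω : Type v} [Group G] [MulAction G Ω] [Finite G] [Finite Ω] (H : Sit G Ω)
include H

theorem card_ab {a b : Ω} (hab : a ≠ b) : Nat.card ↥(stabilizer G a ⊓ stabilizer G b) = 12 := by
  obtain ⟨e⟩ := H.st a b hab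
  rw [Nat.card_congr e.toEquiv, a4_card]

omit [Finite G] in
theorem exists_ne (a : Ω) (h : 2 ≤ Nat.card Ω) : ∃ b : Ω, a ≠ b := by
  have : Nontrivial Ω := Finite.one_lt_card_iff_nontrivial.1 (by omega)
  obtain ⟨b, hb⟩ := _root_.exists_ne a
  exact ⟨b, hb.symm⟩

/-- `|G| = n (n - 1) 12` -/
theorem card_G {a b : Ω} (hab : a ≠ b) : Nat.card G = Nat.card Ω * ((Nat.card Ω - 1) * 12) := by
  have h1 := card_orbit (⊤ : Subgroup G) (Set.univ : Set Ω) a (by
    rw [Set.eq_univ_iff_forall]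
    intro x
    by_cases hx : x = a
    · exact ⟨1, by rw [hx]; exact one_smul _ _⟩
    · obtain ⟨g, -, hg⟩ := H.two b a a x hab.symm (Ne.symm hx)
      exact ⟨⟨g, mem_top g⟩, hg⟩)
  have h2 := card_orbit (stabilizer G a) ({a}ᶜ : Set Ω) b (by
    ext x
    rw [Set.mem_compl_iff, Set.mem_singleton_iff]
    constructor
    · rintro ⟨⟨g, hg⟩, rfl⟩ h
      apply hab
      have h3 : g • b = g • a := by
        rw [show g • a = a from hg]
        exact h
      exact (smul_left_cancel g h3).symm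
    · intro hx
      obtain ⟨g, hg, hg'⟩ := H.two a b a x hab (Ne.symm hx)
      exact ⟨⟨g, hg⟩, hg'⟩)
  rw [Set.ncard_univ, top_inf_eq, Nat.card_congr (Subgroup.topEquiv : (⊤ : Subgroup G) ≃* G).toEquiv] at h1
  rw [h1, h2, H.card_ab hab, Set.ncard_compl, Set.ncard_singleton]

/-- conjugacy of the involutions -/
theorem exists_move {a b x y : Ω} (hab : a ≠ b) (hxy : x ≠ y) {t u : G} (ht : t ≠ 1) (htt : t * t = 1)
    (hta : t • a = a) (htb : t • b = b) (hu : u ≠ 1) (huu : u * u = 1) (hux : u • x = x) (huy : u • y = y) :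
    ∃ g : G, g * t * g⁻¹ = u ∧ g • a = x ∧ g • b = y := by
  obtain ⟨k, hk, hk'⟩ := H.two a b x y hab hxy
  obtain ⟨e⟩ := H.st x y hxy
  have hkt : k * t * k⁻¹ ∈ stabilizer G x ⊓ stabilizer G y := by
    rw [Subgroup.mem_inf, mem_stabilizer_iff, mem_stabilizer_iff]
    constructor
    · rw [mul_smul, mul_smul, inv_smul_eq_iff.2 hk.symm, hta, hk]
    · rw [mul_smul, mul_smul, inv_smul_eq_iff.2 hk'.symm, htb, hk']
  obtain ⟨⟨c, hc⟩, h⟩ := A4Act.conj e (x := ⟨k * t * k⁻¹, hkt⟩) (y := ⟨u, hux, huy⟩)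
    (fun h => ht (by
      have h1 : k * t * k⁻¹ = 1 := congrArg Subtype.val h
      rwa [mul_inv_eq_one, mul_eq_left] at h1))
    (Subtype.ext (by
      change k * t * k⁻¹ * (k * t * k⁻¹) = 1
      rw [show k * t * k⁻¹ * (k * t * k⁻¹) = k * (t * t) * k⁻¹ by group, htt, mul_one, mul_inv_cancel]))
    (fun h => hu (congrArg Subtype.val h)) (Subtype.ext huu)
  refine ⟨c * k, ?_, ?_, ?_⟩
  · have h1 : c * (k * t * k⁻¹) * c⁻¹ = u := congrArg Subtype.val h
    rw [← h1]; group
  · rw [mul_smul, hk]; exact hc.1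
  · rw [mul_smul, hk']; exact hc.2

/-- the number of fixed points of an involution -/
theorem card_centralizer {a b : Ω} (hab : a ≠ b) {t : G} (ht : t ≠ 1) (htt : t * t = 1)
    (hta : t • a = a) (htb : t • b = b) :
    Nat.card (centralizer ({t} : Set G)) = {x : Ω | t • x = x}.ncard * (({x : Ω | t • x = x}.ncard - 1) * 4) := by
  have h1 := card_orbit (centralizer ({t} : Set G)) {x : Ω | t • x = x} a (by
    ext x
    constructor
    · rintro ⟨⟨g, hg⟩, rfl⟩
      rw [mem_centralizer_singleton_iff] at hg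
      change t • g • a = g • a
      rw [← mul_smul, ← hg, mul_smul, hta]
    · intro hx
      have hx' : t • x = x := hx
      by_cases hxa : x = a
      · exact ⟨1, by rw [hxa]; exact one_smul _ _⟩
      · obtain ⟨g, hg, -, hg'⟩ := H.exists_move hab.symm (Ne.symm hxa) ht htt htb hta ht htt hta hx'
        exact ⟨⟨g, mem_centralizer_singleton_iff.2 (mul_inv_eq_iff_eq_mul.1 hg)⟩, hg'⟩)
  have h2 := card_orbit (centralizer ({t} : Set G) ⊓ stabilizer G a) ({x : Ω | t • x = x} \ {a}) b (by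
    ext x
    rw [Set.mem_sdiff, Set.mem_singleton_iff]
    constructor
    · rintro ⟨⟨g, hg, hga⟩, rfl⟩
      change g ∈ centralizer ({t} : Set G) at hg
      rw [mem_centralizer_singleton_iff] at hg
      constructor
      · change t • g • b = g • b
        rw [← mul_smul, ← hg, mul_smul, htb]
      · intro h
        apply hab
        have h3 : g • b = g • a := by
          rw [show g • a = a from hga]
          exact h
        exact (smul_left_cancel g h3).symm
    · rintro ⟨hx, hxa⟩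
      have hx' : t • x = x := hx
      obtain ⟨g, hg, hg', hg''⟩ := H.exists_move hab (Ne.symm hxa) ht htt hta htb ht htt hta hx'
      exact ⟨⟨g, mem_centralizer_singleton_iff.2 (mul_inv_eq_iff_eq_mul.1 hg), hg'⟩, hg''⟩)
  obtain ⟨e⟩ := H.st a b hab
  have h3 : Nat.card ↥(centralizer ({t} : Set G) ⊓ stabilizer G a ⊓ stabilizer G b) = 4 := by
    rw [← four e]
    have hc := fun y => A4Act.comm e (x := ⟨t, hta, htb⟩) y (fun h => ht (congrArg Subtype.val h)) (Subtype.ext htt)
    refine Nat.card_congr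
      { toFun := fun y => ⟨⟨y.1, y.2.1.2, y.2.2⟩, ?_⟩
        invFun := fun y => ⟨y.1.1, ⟨?_, y.1.2.1⟩, y.1.2.2⟩
        left_inv := fun y => rfl
        right_inv := fun y => rfl }
    · exact (hc _).1 (Subtype.ext (mem_centralizer_singleton_iff.1 y.2.1.1))
    · exact mem_centralizer_singleton_iff.2 (congrArg Subtype.val ((hc _).2 y.2))
  rw [h3, Set.ncard_sdiff_singleton_of_mem (by exact hta)] at h2
  rw [h1, h2]

omit H [Finite G] in
theorem fix_mod {t : G} (htt : t * t = 1) : {x : Ω | t • x = x}.ncard % 2 = Nat.card Ω % 2 := by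
  have : Fact (Nat.Prime 2) := ⟨Nat.prime_two⟩
  have hp : IsPGroup 2 (zpowers t) := by
    rintro ⟨y, hy⟩
    obtain ⟨j, rfl⟩ := mem_zpowers_iff.1 hy
    refine ⟨1, Subtype.ext ?_⟩
    change (t ^ j) ^ 2 ^ 1 = 1
    rw [pow_one, ← zpow_natCast, ← zpow_mul, mul_comm, zpow_mul, zpow_natCast, pow_two, htt, one_zpow]
  have h1 := hp.card_modEq_card_fixedPoints Ω
  have h2 : fixedPoints (zpowers t) Ω = {x : Ω | t • x = x} := by
    ext x
    rw [mem_fixedPoints]
    constructor
    · intro h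
      exact h ⟨t, mem_zpowers t⟩
    · rintro h ⟨y, hy⟩
      have : zpowers t ≤ stabilizer G x := (zpowers_le).2 h
      exact this hy
  have h3 : Nat.card (fixedPoints (zpowers t) Ω) = {x : Ω | t • x = x}.ncard := by rw [h2]; rfl
  rw [h3] at h1
  exact h1.symm

end Sit

end Cfsg.Agent.H310.A4AS
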