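import Cfsg.Agent.TwoFusion.AbelianJanko
import Mathlib

/-!
# Automorphisms of 2-power order fixing an abelian Sylow 2-subgroup elementwise are inner

For a simple group `G` of even order with trivial centre and abelian Sylow 2-subgroups: an automorphism of 2-power
order which fixes every element of a Sylow 2-subgroup is inner (from the `Z*`-theorem).
-/

set_option autoImplicit false

namespace Cfsg.Agent.H310.FixSylow

open Subgroup
open Cfsg.Agent.TwoFusion.AbelianJanko (ZStar)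

universe u

theorem inner_of_fix {G : Type u} [Group G] [Finite G] (zs : ZStar.{u}) (hZ : Subgroup.center G = ⊥)
    (hO : ∀ X : Subgroup G, X.Normal → Odd (Nat.card X) → X = ⊥) (S : Sylow 2 G)
    (hS : ∀ a ∈ (S : Subgroup G), ∀ b ∈ (S : Subgroup G), a * b = b * a) (φ : MulAut G) (k : ℕ)
    (hφ : φ ^ (2 ^ k) = 1) (hfix : ∀ s ∈ (S : Subgroup G), φ s = s) :
    ∃ g : G, ∀ x : G, φ x = g * x * g⁻¹ := by
  classical
  have h2 : Fact (Nat.Prime 2) := ⟨Nat.prime_two⟩
  let c : G →* MulAut G := MulAut.conj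
  have hcinj : Function.Injective c := by
    rw [← MonoidHom.ker_eq_bot_iff, eq_bot_iff, ← hZ]
    intro x hx
    rw [Subgroup.mem_center_iff]
    intro y
    have h3 : c x = 1 := MonoidHom.mem_ker.1 hx
    have h4 : c x y = y := by rw [h3]; rfl
    have h5 : x * y * x⁻¹ = y := h4
    exact (mul_inv_eq_iff_eq_mul.1 h5).symm
  have hconj : ∀ (ψ : MulAut G) (g : G), ψ * c g * ψ⁻¹ = c (ψ g) := by
    intro ψ g
    ext x
    change ψ (g * (ψ⁻¹ x) * g⁻¹) = ψ g * x * (ψ g)⁻¹
    rw [map_mul, map_mul, map_inv]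
    have : ψ (ψ⁻¹ x) = x := MulEquiv.apply_symm_apply ψ x
    rw [this]
  let I : Subgroup (MulAut G) := c.range
  have hIn : I.Normal := by
    refine ⟨?_⟩
    rintro _ ⟨g, rfl⟩ ψ
    exact ⟨ψ g, (hconj ψ g).symm⟩
  let K : Subgroup (MulAut G) := I ⊔ Subgroup.zpowers φ
  have hIK : I ≤ K := le_sup_left
  have hφK : φ ∈ K := (le_sup_right : Subgroup.zpowers φ ≤ K) (Subgroup.mem_zpowers φ)
  have hcomm : ∀ s ∈ (S : Subgroup G), Commute φ (c s) := by
    intro s hs
    have h3 := hconj φ s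
    rw [hfix s hs] at h3
    exact mul_inv_eq_iff_eq_mul.1 h3
  let K₀ : Subgroup K := I.subgroupOf K
  have hK₀n : K₀.Normal := hIn.subgroupOf K
  let Q : Subgroup (MulAut G) := (S : Subgroup G).map c ⊔ Subgroup.zpowers φ
  have hQK : Q ≤ K := sup_le_sup (Subgroup.map_le_range c _) le_rfl
  -- `Q` is a 2-group
  have hφ2 : IsPGroup 2 (Subgroup.zpowers φ) := by
    rw [IsPGroup.iff_orderOf]
    rintro ⟨x, hx⟩
    have h3 : (⟨x, hx⟩ : Subgroup.zpowers φ) ^ (2 ^ k) = 1 := by
      apply Subtype.ext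
      change x ^ (2 ^ k) = 1
      obtain ⟨j, rfl⟩ := hx
      change (φ ^ j) ^ (2 ^ k) = 1
      rw [← zpow_natCast, ← zpow_mul, mul_comm, zpow_mul, zpow_natCast, hφ, one_zpow]
    obtain ⟨m, -, hm⟩ := (Nat.dvd_prime_pow Nat.prime_two).1 (orderOf_dvd_of_pow_eq_one h3)
    exact ⟨m, hm⟩
  have hQ2 : IsPGroup 2 Q := by
    apply IsPGroup.to_sup_of_normal_right' (S.isPGroup'.map c) hφ2
    rintro _ ⟨s, hs, rfl⟩
    rw [Subgroup.mem_normalizer_iff]
    intro h
    constructor
    · rintro ⟨j, rfl⟩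
      refine ⟨j, ?_⟩
      change φ ^ j = c s * φ ^ j * (c s)⁻¹
      have h3 := (hcomm s hs).zpow_left j
      rw [← h3.eq, mul_inv_cancel_right]
    · rintro ⟨j, hj⟩
      refine ⟨j, ?_⟩
      change φ ^ j = h
      change φ ^ j = c s * h * (c s)⁻¹ at hj
      have h3 := (hcomm s hs).zpow_left j
      have h4 : h = (c s)⁻¹ * φ ^ j * c s := by rw [hj]; group
      rw [h4, mul_assoc, h3.eq, inv_mul_cancel_left]
  obtain ⟨R, hR⟩ : ∃ R : Sylow 2 K, Q.subgroupOf K ≤ R := by
    apply IsPGroup.exists_le_sylow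
    exact hQ2.comap_of_injective K.subtype K.subtype_injective
  -- the elements of `R`
  have hform : ∀ r ∈ (R : Subgroup K), ∃ s ∈ (S : Subgroup G), ∃ j : ℤ, (r : MulAut G) = c s * φ ^ j := by
    intro r hr
    have h3 : (r : MulAut G) ∈ I ⊔ Subgroup.zpowers φ := r.2
    rw [← SetLike.mem_coe, Subgroup.normal_mul] at h3
    obtain ⟨i, hi, p, hp, hip⟩ := h3
    obtain ⟨g, rfl⟩ := hi
    obtain ⟨j, rfl⟩ := hp
    refine ⟨g, ?_, j, hip.symm⟩
    -- `S` is maximal among 2-subgroups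
    let T : Subgroup G := ((R : Subgroup K).map K.subtype).comap c
    have hT2 : IsPGroup 2 T := (R.isPGroup'.map K.subtype).comap_of_injective c hcinj
    have hST : (S : Subgroup G) ≤ T := by
      intro s hs
      rw [Subgroup.mem_comap]
      have hsQ : c s ∈ Q := (le_sup_left : (S : Subgroup G).map c ≤ Q) ⟨s, hs, rfl⟩
      exact ⟨⟨c s, hQK hsQ⟩, hR hsQ, rfl⟩
    have hTS := S.is_maximal' hT2 hST
    have hgT : g ∈ T := by
      rw [Subgroup.mem_comap]
      have hφR : (⟨φ, hφK⟩ : K) ∈ (R : Subgroup K) :=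
        hR ((le_sup_right : Subgroup.zpowers φ ≤ Q) (Subgroup.mem_zpowers φ))
      have h4 : r * (⟨φ, hφK⟩ : K) ^ (-j) ∈ (R : Subgroup K) :=
        (R : Subgroup K).mul_mem hr ((R : Subgroup K).zpow_mem hφR _)
      refine ⟨_, h4, ?_⟩
      change (r : MulAut G) * ((⟨φ, hφK⟩ : K) ^ (-j) : K) = c g
      rw [← hip]
      change c g * φ ^ j * φ ^ (-j) = c g
      rw [mul_assoc, ← zpow_add, add_neg_cancel, zpow_zero, mul_one]
    rw [← hTS]; exact hgT
  have hRc : IsMulCommutative (R : Subgroup K) := by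
    refine ⟨⟨fun x y => Subtype.ext (Subtype.ext ?_)⟩⟩
    obtain ⟨s, hs, i, hx⟩ := hform x x.2
    obtain ⟨s', hs', j, hy⟩ := hform y y.2
    change ((x : K) : MulAut G) * ((y : K) : MulAut G) = ((y : K) : MulAut G) * ((x : K) : MulAut G)
    rw [hx, hy]
    have h3 : Commute (c s) (c s') := by
      change c s * c s' = c s' * c s
      rw [← map_mul, ← map_mul, hS s hs s' hs']
    have h4 : Commute (c s) (φ ^ j) := (hcomm s hs).symm.zpow_right j
    have h5 : Commute (φ ^ i) (c s') := (hcomm s' hs').zpow_left i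
    have h6 : Commute (φ ^ i) (φ ^ j) := (Commute.refl φ).zpow_zpow i j
    exact ((h3.mul_right h4).mul_left (h5.mul_right h6)).eq
  have hfin := Cfsg.Agent.TwoFusion.AbelianJanko.sylow_le zs K₀ hK₀n ?_ ?_ R hRc
  · have hφR : (⟨φ, hφK⟩ : K) ∈ (R : Subgroup K) :=
      hR ((le_sup_right : Subgroup.zpowers φ ≤ Q) (Subgroup.mem_zpowers φ))
    obtain ⟨g, hg⟩ : φ ∈ I := hfin hφR
    refine ⟨g, fun x => ?_⟩
    rw [← hg]; rfl
  · intro X hXK hXn hXo
    let X' : Subgroup G := (X.map K.subtype).comap c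
    have hX'n : X'.Normal := by
      refine ⟨fun x hx g => ?_⟩
      rw [Subgroup.mem_comap] at hx ⊢
      obtain ⟨y, hy, hyx⟩ := hx
      have hgK : c g ∈ K := hIK ⟨g, rfl⟩
      refine ⟨⟨c g, hgK⟩ * y * ⟨c g, hgK⟩⁻¹, hXn ⟨c g, hgK⟩ ⟨g, rfl⟩ y hy, ?_⟩
      change c g * (y : MulAut G) * (c g)⁻¹ = c (g * x * g⁻¹)
      have : (y : MulAut G) = c x := hyx
      rw [this, map_mul, map_mul, map_inv]
    have hX'card : Nat.card X' = Nat.card X := by
      have h3 : X'.map c = X.map K.subtype := by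
        rw [Subgroup.map_comap_eq, inf_eq_right]
        rintro _ ⟨y, hy, rfl⟩
        exact hXK hy
      calc Nat.card X' = Nat.card (X'.map c) :=
            Nat.card_congr (X'.equivMapOfInjective c hcinj).toEquiv
        _ = Nat.card (X.map K.subtype) := by rw [h3]
        _ = Nat.card X := (Nat.card_congr (X.equivMapOfInjective _ K.subtype_injective).toEquiv).symm
    have h4 : Nat.card X = 1 := by
      rw [← hX'card, hO X' hX'n (by rw [hX'card]; exact hXo), Subgroup.card_bot]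
    exact Subgroup.card_eq_one.1 h4
  · rw [eq_bot_iff]
    intro ψ hψ
    rw [Subgroup.mem_centralizer_iff] at hψ
    rw [Subgroup.mem_bot]
    apply Subtype.ext
    change (ψ : MulAut G) = 1
    ext g
    have h3 := hψ ⟨c g, hIK ⟨g, rfl⟩⟩ ⟨g, rfl⟩
    have h4 : c g * (ψ : MulAut G) = (ψ : MulAut G) * c g := congrArg Subtype.val h3
    have h5 := hconj (ψ : MulAut G) g
    rw [← h4, mul_inv_cancel_right] at h5
    have h6 := hcinj h5
    change (ψ : MulAut G) g = g
    exact h6.symm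

end Cfsg.Agent.H310.FixSylow
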