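import Cfsg.Agent.SylowSp4.AltModel
import Cfsg.Agent.SylowSp4.Base

/-!
# Normal elementary abelian subgroups of the Sylow 2-subgroup of `PSp_4(3)` and their complements
-/

set_option autoImplicit false

namespace Cfsg.Agent.H310.M64Split

open Cfsg.Agent.SylowSp4.AltModel M64 Cfsg.Agent.SylowSp4.Coord Cfsg.Agent.SylowSp4.Base

/-- complement of `A` -/
def InW (x : M64) : Prop := x.m = false ∧ x.c = x.b ∧ x.d = x.a + x.b ∧ x.e = 0
/-- complement of `F₁` and of `F₃` -/
def InK1 (x : M64) : Prop := x.c = x.a ∧ x.d = x.a + x.b ∧ x.e = (x.a + 1) * x.b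
/-- complement of `F₂` -/
def InK2 (x : M64) : Prop := x.c = x.a + x.b ∧ x.d = x.b ∧ x.e = x.a * (x.b + 1)

instance instW : DecidablePred InW := fun x => by unfold InW; infer_instance
instance instK1 : DecidablePred InK1 := fun x => by unfold InK1; infer_instance
instance instK2 : DecidablePred InK2 := fun x => by unfold InK2; infer_instance

theorem W_mul : ∀ x, InW x → ∀ y, InW y → InW (x * y) := by decide +kernel
theorem W_inv : ∀ x, InW x → InW x⁻¹ := by decide +kernel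
theorem K1_mul : ∀ x, InK1 x → ∀ y, InK1 y → InK1 (x * y) := by decide +kernel
theorem K1_inv : ∀ x, InK1 x → InK1 x⁻¹ := by decide +kernel
theorem K2_mul : ∀ x, InK2 x → ∀ y, InK2 y → InK2 (x * y) := by decide +kernel
theorem K2_inv : ∀ x, InK2 x → InK2 x⁻¹ := by decide +kernel

def W : Subgroup M64 where
  carrier := {x | InW x}
  mul_mem' {x y} hx hy := W_mul x hx y hy
  one_mem' := by show InW 1; decide
  inv_mem' {x} hx := W_inv x hx

def K1 : Subgroup M64 where
  carrier := {x | InK1 x}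
  mul_mem' {x y} hx hy := K1_mul x hx y hy
  one_mem' := by show InK1 1; decide
  inv_mem' {x} hx := K1_inv x hx

def K2 : Subgroup M64 where
  carrier := {x | InK2 x}
  mul_mem' {x y} hx hy := K2_mul x hx y hy
  one_mem' := by show InK2 1; decide
  inv_mem' {x} hx := K2_inv x hx

theorem A_of_m : ∀ x : M64, x.m = true → x * x = 1 → ∀ y, y * x = x * y → InA y := by decide +kernel
theorem A_comm : ∀ x : M64, InA x → ∀ y, InA y → x * y = y * x := by decide +kernel
theorem card_A : (Finset.univ.filter (fun x : M64 => InA x)).card = 16 := by decide +kernel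
theorem F_cases : ∀ x : M64, InR x → x * x = 1 → ¬ InA x → InF1 x ∨ InF2 x ∨ InF3 x := by decide +kernel
theorem F1_of_comm : ∀ y : M64, InF1 y → ¬ InA y → ∀ g, InR g → g * y = y * g →
    g * (s * y * s⁻¹) = (s * y * s⁻¹) * g → InF1 g := by decide +kernel
theorem F2_of_comm : ∀ y : M64, InF2 y → ¬ InA y → ∀ g, InR g → g * y = y * g →
    g * (s * y * s⁻¹) = (s * y * s⁻¹) * g → InF2 g := by decide +kernel
theorem F3_of_comm : ∀ y : M64, InF3 y → ¬ InA y → ∀ g, InR g → g * y = y * g →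
    g * (s * y * s⁻¹) = (s * y * s⁻¹) * g → InF3 g := by decide +kernel
theorem card_F1 : (Finset.univ.filter (fun x : M64 => InF1 x)).card = 8 := by decide +kernel
theorem card_F2 : (Finset.univ.filter (fun x : M64 => InF2 x)).card = 8 := by decide +kernel
theorem card_F3 : (Finset.univ.filter (fun x : M64 => InF3 x)).card = 8 := by decide +kernel

theorem A_W : ∀ x : M64, InA x → InW x → x = 1 := by decide +kernel
theorem F1_K1 : ∀ x : M64, InF1 x → InK1 x → x = 1 := by decide +kernel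
theorem F3_K1 : ∀ x : M64, InF3 x → InK1 x → x = 1 := by decide +kernel
theorem F2_K2 : ∀ x : M64, InF2 x → InK2 x → x = 1 := by decide +kernel
theorem A_W_all : ∀ x : M64, ∃ y, InW y ∧ InA (x * y⁻¹) := by decide +kernel
theorem F1_K1_all : ∀ x : M64, ∃ y, InK1 y ∧ InF1 (x * y⁻¹) := by decide +kernel
theorem F3_K1_all : ∀ x : M64, ∃ y, InK1 y ∧ InF3 (x * y⁻¹) := by decide +kernel
theorem F2_K2_all : ∀ x : M64, ∃ y, InK2 y ∧ InF2 (x * y⁻¹) := by decide +kernel

/-- comparing a subgroup with a decidable set of the same size -/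
theorem eq_of_card {N : Subgroup M64} {P : M64 → Prop} [DecidablePred P] {n : ℕ}
    (hN : Nat.card N = n) (hP : (Finset.univ.filter P).card = n) (hsub : ∀ x ∈ N, P x) :
    ∀ x, x ∈ N ↔ P x := by
  classical
  have h1 : (N : Set M64) ⊆ {x | P x} := hsub
  have h2 : ({x | P x} : Set M64).ncard = n := by
    rw [← hP, ← Set.ncard_coe_finset]
    congr 1
    ext x
    simp
  have h3 : (N : Set M64).ncard = n := by
    rw [← hN, ← Nat.card_coe_set_eq]
    rfl
  have h4 := Set.eq_of_subset_of_ncard_le h1 (by rw [h2, h3]) (Set.toFinite _)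
  intro x
  have h5 : x ∈ (N : Set M64) ↔ x ∈ {x | P x} := by rw [h4]
  exact h5

/-- Splitting in the model: order 16. -/
theorem split16 (N : Subgroup M64) (hN : Nat.card N = 16) (hN2 : ∀ x ∈ N, x * x = 1)
    (hR : ∃ x ∈ N, x.m = true) :
    ∃ A : Subgroup M64, (∀ x ∈ N, x ∈ A → x = 1) ∧ ∀ x, ∃ y ∈ A, x * y⁻¹ ∈ N := by
  obtain ⟨x, hx, hxm⟩ := hR
  have hcomm : ∀ x ∈ N, ∀ y ∈ N, x * y = y * x := by
    intro x hx y hy
    have h5 := hN2 (x * y) (N.mul_mem hx hy)
    have hxi : x⁻¹ = x := inv_eq_of_mul_eq_one_left (hN2 x hx)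
    have hyi : y⁻¹ = y := inv_eq_of_mul_eq_one_left (hN2 y hy)
    have h6 : (x * y)⁻¹ = x * y := inv_eq_of_mul_eq_one_left h5
    rw [mul_inv_rev, hxi, hyi] at h6
    exact h6.symm
  have h1 := eq_of_card hN card_A (fun y hy => A_of_m x hxm (hN2 x hx) y (hcomm y hy x hx))
  refine ⟨W, fun y hy hyW => A_W y ((h1 y).1 hy) hyW, fun y => ?_⟩
  obtain ⟨w, hw, hyw⟩ := A_W_all y
  exact ⟨w, hw, (h1 _).2 hyw⟩

/-- Splitting in the model: order 8. -/
theorem split8 (N : Subgroup M64) (hN : Nat.card N = 8) (hN2 : ∀ x ∈ N, x * x = 1)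
    (hn : ∀ x ∈ N, s * x * s⁻¹ ∈ N) (hC : ∀ x, (∀ y ∈ N, x * y = y * x) → x ∈ N) :
    ∃ A : Subgroup M64, (∀ x ∈ N, x ∈ A → x = 1) ∧ ∀ x, ∃ y ∈ A, x * y⁻¹ ∈ N := by
  classical
  have hcomm : ∀ x ∈ N, ∀ y ∈ N, x * y = y * x := by
    intro x hx y hy
    have h5 := hN2 (x * y) (N.mul_mem hx hy)
    have hxi : x⁻¹ = x := inv_eq_of_mul_eq_one_left (hN2 x hx)
    have hyi : y⁻¹ = y := inv_eq_of_mul_eq_one_left (hN2 y hy)
    have h6 : (x * y)⁻¹ = x * y := inv_eq_of_mul_eq_one_left h5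
    rw [mul_inv_rev, hxi, hyi] at h6
    exact h6.symm
  have hNA : ¬ ∀ x ∈ N, InA x := by
    intro h1
    have h2 : ∀ x, InA x → x ∈ N := fun x hx => hC x (fun y hy => A_comm x hx y (h1 y hy))
    have h3 : ((Finset.univ.filter (fun x : M64 => InA x) : Finset M64) : Set M64) ⊆ (N : Set M64) := by
      intro x hx
      apply h2
      simpa using hx
    have h4 := Set.ncard_le_ncard h3 (Set.toFinite _)
    rw [Set.ncard_coe_finset, card_A, ← Nat.card_coe_set_eq] at h4
    have h5 : Nat.card (N : Set M64) = 8 := hN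
    omega
  have hR : ∀ x ∈ N, InR x := by
    intro x hx
    by_contra h1
    have hxm : x.m = true := by
      unfold InR at h1
      simpa using h1
    exact hNA (fun y hy => A_of_m x hxm (hN2 x hx) y (hcomm y hy x hx))
  push Not at hNA
  obtain ⟨y, hy, hyA⟩ := hNA
  rcases F_cases y (hR y hy) (hN2 y hy) hyA with h1 | h1 | h1
  · have h2 := eq_of_card hN card_F1 (fun g hg => F1_of_comm y h1 hyA g (hR g hg) (hcomm g hg y hy)
      (hcomm g hg _ (hn y hy)))
    refine ⟨K1, fun y hy hyW => F1_K1 y ((h2 y).1 hy) hyW, fun y => ?_⟩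
    obtain ⟨w, hw, hyw⟩ := F1_K1_all y
    exact ⟨w, hw, (h2 _).2 hyw⟩
  · have h2 := eq_of_card hN card_F2 (fun g hg => F2_of_comm y h1 hyA g (hR g hg) (hcomm g hg y hy)
      (hcomm g hg _ (hn y hy)))
    refine ⟨K2, fun y hy hyW => F2_K2 y ((h2 y).1 hy) hyW, fun y => ?_⟩
    obtain ⟨w, hw, hyw⟩ := F2_K2_all y
    exact ⟨w, hw, (h2 _).2 hyw⟩
  · have h2 := eq_of_card hN card_F3 (fun g hg => F3_of_comm y h1 hyA g (hR g hg) (hcomm g hg y hy)
      (hcomm g hg _ (hn y hy)))
    refine ⟨K1, fun y hy hyW => F3_K1 y ((h2 y).1 hy) hyW, fun y => ?_⟩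
    obtain ⟨w, hw, hyw⟩ := F3_K1_all y
    exact ⟨w, hw, (h2 _).2 hyw⟩

section Transport

variable {G : Type*} [Group G] {S : Subgroup G} {f : Q 1 → Q 1 → G} {s' : G} (h : TSp S 1 f s')

include h

/-- transport of a complement from the model -/
theorem transport (N : Subgroup G)
    (hA : ∃ A : Subgroup M64, (∀ x ∈ N.comap (hom h), x ∈ A → x = 1) ∧
      ∀ x, ∃ y ∈ A, x * y⁻¹ ∈ N.comap (hom h)) (hNS : N ≤ S) :
    ∃ A : Subgroup G, A ≤ S ∧ A ⊓ N = ⊥ ∧ N ⊔ A = S := by
  obtain ⟨A, h1, h2⟩ := hA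
  have hAS : A.map (hom h) ≤ S := (Subgroup.map_le_range _ _).trans (hom_range h).le
  refine ⟨A.map (hom h), hAS, ?_, ?_⟩
  · rw [eq_bot_iff]
    rintro _ ⟨⟨x, hx, rfl⟩, hxN⟩
    rw [Subgroup.mem_bot, h1 x hxN hx, map_one]
  · apply le_antisymm (sup_le hNS hAS)
    intro g hg
    rw [← hom_range h] at hg
    obtain ⟨x, rfl⟩ := hg
    obtain ⟨y, hy, hxy⟩ := h2 x
    have h3 : hom h x = hom h (x * y⁻¹) * hom h y := by
      rw [← map_mul, inv_mul_cancel_right]
    rw [h3]
    exact (N ⊔ A.map (hom h)).mul_mem ((le_sup_left : N ≤ _) hxy)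
      ((le_sup_right : A.map (hom h) ≤ _) ⟨y, hy, rfl⟩)

theorem card_comap (N : Subgroup G) (hNS : N ≤ S) : Nat.card (N.comap (hom h)) = Nat.card N := by
  have h1 : (N.comap (hom h)).map (hom h) = N := by
    rw [Subgroup.map_comap_eq, inf_eq_right, hom_range h]; exact hNS
  conv_rhs => rw [← h1]
  exact Nat.card_congr ((N.comap (hom h)).equivMapOfInjective _ (hom_injective h)).toEquiv

/-- Splitting over a subgroup of order 16 not contained in the base group. -/
theorem exists_compl16 (N : Subgroup G) (hNS : N ≤ S) (hN : Nat.card N = 16) (hN2 : ∀ x ∈ N, x * x = 1)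
    (hb : ¬ N ≤ base h) : ∃ A : Subgroup G, A ≤ S ∧ A ⊓ N = ⊥ ∧ N ⊔ A = S := by
  refine transport h N (split16 _ (by rw [card_comap h N hNS, hN]) ?_ ?_) hNS
  · intro x hx
    apply hom_injective h
    rw [map_mul, map_one]
    exact hN2 _ hx
  · by_contra hno
    push Not at hno
    apply hb
    intro g hg
    have hg' := hNS hg
    rw [← hom_range h] at hg'
    obtain ⟨x, rfl⟩ := hg'
    have h1 := hno x hg
    have h2 : x.m = false := by simpa using h1
    rw [mem_base]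
    refine ⟨qel x.a x.b x.e, qel x.c x.d 0, ?_⟩
    rw [hom_apply, toG, h2]
    simp [spow]

/-- Splitting over a self-centralising normal elementary abelian subgroup of order 8. -/
theorem exists_compl8 (N : Subgroup G) (hNS : N ≤ S) (hN : Nat.card N = 8) (hN2 : ∀ x ∈ N, x * x = 1)
    (hn : ∀ x ∈ S, ∀ y ∈ N, x * y * x⁻¹ ∈ N) (hC : ∀ x ∈ S, (∀ y ∈ N, x * y = y * x) → x ∈ N) :
    ∃ A : Subgroup G, A ≤ S ∧ A ⊓ N = ⊥ ∧ N ⊔ A = S := by
  have hmem : ∀ x, hom h x ∈ S := fun x => (hom_range h).le ⟨x, rfl⟩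
  refine transport h N (split8 _ (by rw [card_comap h N hNS, hN]) ?_ ?_ ?_) hNS
  · intro x hx
    apply hom_injective h
    rw [map_mul, map_one]
    exact hN2 _ hx
  · intro x hx
    rw [Subgroup.mem_comap, map_mul, map_mul, map_inv]
    exact hn _ (hmem _) _ hx
  · intro x hx
    rw [Subgroup.mem_comap]
    apply hC _ (hmem _)
    intro y hy
    have hy' := hNS hy
    rw [← hom_range h] at hy'
    obtain ⟨y, rfl⟩ := hy'
    rw [← map_mul, ← map_mul, hx y hy]

end Transport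

end Cfsg.Agent.H310.M64Split
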