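import Cfsg.Agent.H310.Sp4Norm
import Cfsg.Agent.H310.M64Split
import Cfsg.Agent.H310.PerfTools
import Cfsg.Agent.GH.GL4Seven
import Cfsg.Agent.GH.GL4Main
import Cfsg.Agent.H352.Order120
import Cfsg.Agent.ThType.CentSevenGL
import Cfsg.Agent.S0051

/-!
# Perfect groups with Sylow 2-subgroups of type `PSp_4(q)` and an abelian minimal normal subgroup
-/

set_option autoImplicit false

namespace Cfsg.Agent.H310.PspAffine

open Subgroup Cfsg.Agent.SylowSp4.Coord Cfsg.Agent.SylowSp4.Base Cfsg.Agent.H310.PerfTools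
open Cfsg.Agent.GH.GL4 (NatD N1 N2 N3 O1 O2)

/-- The four-group of `NatD` centralises `U`. -/
theorem natD_fix {Y V : Type*} [Group Y] [Group V] {φ : Y →* MulAut V} {U : Subgroup V} {a d : Y}
    (h : NatD φ U a d) : ∀ y ∈ closure ({a, d * a * d⁻¹} : Set Y), ∀ u ∈ U, φ y u = u := by
  have hd : d⁻¹ = d * d := by
    apply inv_eq_of_mul_eq_one_left
    exact h.d3
  have hdi : ∀ u ∈ U, φ d⁻¹ u ∈ U := by
    intro u hu
    rw [hd, map_mul]
    exact h.dU _ (h.dU u hu)
  intro y hy
  induction hy using closure_induction with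
  | mem x hx =>
    intro u hu
    simp only [Set.mem_insert_iff, Set.mem_singleton_iff] at hx
    rcases hx with rfl | rfl
    · exact (h.fa u).2 hu
    · rw [map_mul, map_mul]
      change φ d (φ a (φ d⁻¹ u)) = u
      rw [(h.fa _).2 (hdi u hu)]
      change (φ d * φ d⁻¹) u = u
      rw [← map_mul, mul_inv_cancel, map_one]
      rfl
  | one =>
    intro u _
    rw [map_one]; rfl
  | mul x y _ _ hx hy =>
    intro u hu
    rw [map_mul]
    change φ x (φ y u) = u
    rw [hy u hu, hx u hu]
  | inv x _ hx =>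
    intro u hu
    have h1 := hx u hu
    calc φ x⁻¹ u = φ x⁻¹ (φ x u) := by rw [h1]
      _ = (φ x⁻¹ * φ x) u := rfl
      _ = u := by rw [← map_mul, inv_mul_cancel, map_one]; rfl

section

variable {G : Type*} [Group G] [Finite G]

/-- The data: a perfect group `G` with Sylow 2-subgroup of type `PSp_4`, `O(G) = 1`, `N` an elementary abelian
minimal normal subgroup which is not central. -/
structure Aff (S : Sylow 2 G) {k : ℕ} (f : Q k → Q k → G) (s : G) (N : Subgroup G) : Prop where
  perf : commutator G = ⊤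
  core : Cfsg.oddCore G = ⊥
  cen : Subgroup.center G = ⊥
  tsp : TSp (S : Subgroup G) k f s
  nor : N.Normal
  ne : N ≠ ⊥
  min : ∀ M : Subgroup G, M.Normal → M ≤ N → M = ⊥ ∨ M = N
  sq : ∀ x ∈ N, x * x = 1

namespace Aff

variable {S : Sylow 2 G} {k : ℕ} {f : Q k → Q k → G} {s : G} {N : Subgroup G} (h : Aff S f s N)

include h

omit [Finite G] in
theorem comm : ∀ x ∈ N, ∀ y ∈ N, x * y = y * x := by
  intro x hx y hy
  have h5 := h.sq (x * y) (N.mul_mem hx hy)
  have hxi : x⁻¹ = x := inv_eq_of_mul_eq_one_left (h.sq x hx)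
  have hyi : y⁻¹ = y := inv_eq_of_mul_eq_one_left (h.sq y hy)
  have h6 : (x * y)⁻¹ = x * y := inv_eq_of_mul_eq_one_left h5
  rw [mul_inv_rev, hxi, hyi] at h6
  exact h6.symm

omit [Finite G] in
theorem isPGroup : IsPGroup 2 N := by
  intro x
  refine ⟨1, ?_⟩
  rw [pow_one, pow_two]
  exact Subtype.ext (h.sq x x.2)

theorem le_S : N ≤ S := by
  have := h.nor
  have h1 : IsPGroup 2 (N ⊔ (S : Subgroup G) : Subgroup G) := h.isPGroup.to_sup_of_normal_left S.isPGroup'
  have h2 := S.is_maximal' h1 le_sup_right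
  rw [← h2]; exact le_sup_left

theorem t_mem : f (z k) 1 ∈ N := by
  have := h.nor
  exact Cfsg.Agent.H310.Sp4Norm.t_mem_of_normal h.tsp h.le_S h.ne
    (fun x _ y hy => h.nor.conj_mem y hy x)

theorem fix_S {x : G} (hx : x ∈ N) (hS : ∀ y ∈ (S : Subgroup G), x * y = y * x) : x = 1 ∨ x = f (z k) 1 :=
  Cfsg.Agent.H310.Sp4Norm.central_cases h.tsp (h.le_S hx) hS

theorem card_le : Nat.card N ≤ 16 := Cfsg.Agent.H310.Sp4Norm.card_le h.tsp h.le_S h.sq

omit [Finite G] in
theorem centralizer_ne_top : ¬ ∀ g : G, ∀ x ∈ N, g * x = x * g := by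
  intro h1
  apply h.ne
  rw [eq_bot_iff, ← h.cen]
  intro x hx
  rw [mem_center_iff]
  exact fun g => h1 g x hx

theorem four_lt : 4 < Nat.card N := by
  have := h.nor
  by_contra hcon
  push Not at hcon
  have : Group.IsSolvable (Equiv.Perm N) := Cfsg.Agent.Schreier.Tools.isSolvable_perm_of_card_le_four N hcon
  apply h.centralizer_ne_top
  intro g x hx
  have h1 := hom_eq_one h.perf ((MulAut.toPerm N).comp (MulAut.conjNormal : G →* MulAut N)) g
  have h2 : (MulAut.conjNormal g : MulAut N) ⟨x, hx⟩ = ⟨x, hx⟩ := by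
    have := congrArg (fun p : Equiv.Perm N => p ⟨x, hx⟩) h1
    exact this
  have h3 : g * x * g⁻¹ = x := by
    have := congrArg Subtype.val h2
    rwa [MulAut.conjNormal_apply] at this
  rwa [mul_inv_eq_iff_eq_mul] at h3

theorem k_eq : k = 1 := by
  have h1 := h.tsp.hk
  have h2 := h.four_lt
  by_contra hcon
  have h3 := Cfsg.Agent.H310.Sp4Norm.card_le_four h.tsp (by omega) h.le_S h.sq
    (fun x _ y hy => h.nor.conj_mem y hy x)
  omega

theorem card_cases : Nat.card N = 8 ∨ Nat.card N = 16 := by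
  have hp : Fact (Nat.Prime 2) := ⟨Nat.prime_two⟩
  obtain ⟨n, hn⟩ := IsPGroup.iff_card.1 h.isPGroup
  have h1 := h.card_le
  have h2 := h.four_lt
  rw [hn] at h1 h2 ⊢
  have h3 : n ≤ 4 := by
    by_contra hcon
    have : 2 ^ 5 ≤ 2 ^ n := Nat.pow_le_pow_right (by norm_num) (by omega)
    omega
  interval_cases n <;> simp_all

end Aff

end

section One

variable {G : Type*} [Group G] [Finite G] {S : Sylow 2 G} {f : Q 1 → Q 1 → G} {s : G} {N : Subgroup G}
  [hNn : N.Normal] (h : Aff S f s N)

/-- The action on `N`. -/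
noncomputable def act (N : Subgroup G) [N.Normal] : G →* MulAut N := MulAut.conjNormal

omit [Finite G] in
theorem act_apply (g : G) (x : N) : ((act N g x : N) : G) = g * x * g⁻¹ := MulAut.conjNormal_apply g x

omit [Finite G] in
theorem mem_ker {g : G} : g ∈ (act N).ker ↔ ∀ x ∈ N, g * x = x * g := by
  rw [MonoidHom.mem_ker]
  constructor
  · intro h1 x hx
    have h2 := act_apply g (⟨x, hx⟩ : N)
    rw [h1] at h2
    have h3 : x = g * x * g⁻¹ := h2
    exact (mul_inv_eq_iff_eq_mul.1 h3.symm)
  · intro h1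
    ext x
    rw [act_apply, h1 x x.2, mul_inv_cancel_right]
    rfl

include h

omit [Finite G] in
theorem le_ker : N ≤ (act N).ker := fun x hx => mem_ker.2 (fun y hy => h.comm x hx y hy)

omit [Finite G] in
theorem not_solvable : ¬ Group.IsSolvable (act N).range := by
  intro h1
  apply h.centralizer_ne_top
  intro g
  have h2 := hom_eq_one h.perf (act N).rangeRestrict g
  exact mem_ker.1 (MonoidHom.mem_ker.2 (congrArg Subtype.val h2))

omit [Finite G] in
theorem range_perfect : commutator (act N).range = ⊤ := by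
  have h1 : (commutator G).map (act N).rangeRestrict = commutator (act N).range := by
    rw [commutator_def, Subgroup.map_commutator, ← MonoidHom.range_eq_map,
      MonoidHom.range_eq_top.2 (act N).rangeRestrict_surjective, commutator_def]
  rw [← h1, h.perf, ← MonoidHom.range_eq_map, MonoidHom.range_eq_top.2 (act N).rangeRestrict_surjective]

theorem card_S : Nat.card (S : Subgroup G) = 64 := by
  rw [card_eq h.tsp]; norm_num

/-- `|Y| = r m` with `m` odd and `|C_S(N)| r = 64`. -/
theorem exists_rm : ∃ r m : ℕ, Odd m ∧ Nat.card (act N).range = r * m ∧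
    Nat.card ((act N).ker ⊓ (S : Subgroup G) : Subgroup G) * r = 64 ∧
    Nat.card ((S : Subgroup G).map (act N).rangeRestrict) = r := by
  refine ⟨(act N).ker.relIndex S, ((S : Subgroup G) ⊔ (act N).ker).index, ?_, ?_, ?_, ?_⟩
  · rw [← Nat.not_even_iff_odd, even_iff_two_dvd]
    intro h1
    exact S.not_dvd_index (h1.trans (Subgroup.index_dvd_of_le le_sup_left))
  · rw [← Subgroup.index_ker, ← Subgroup.relIndex_mul_index (le_sup_right : (act N).ker ≤ (S : Subgroup G) ⊔ _),
      Subgroup.relIndex_sup_right]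
  · rw [Cfsg.Agent.Lib.SylowNormalInf.card_inf_mul_relIndex, card_S h]
  · have h1 := Cfsg.Agent.Lib.SylowNormalInf.card_inf_mul_relIndex (act N).ker (S : Subgroup G)
    let ψ : (S : Subgroup G) →* (act N).range := (act N).rangeRestrict.comp (S : Subgroup G).subtype
    have h2 : (S : Subgroup G).map (act N).rangeRestrict = ψ.range := by
      rw [MonoidHom.range_comp, Subgroup.range_subtype]
    rw [h2, ← Subgroup.index_ker]
    have h3 : ψ.ker = (act N).ker.subgroupOf S := by
      ext x
      rw [MonoidHom.mem_ker, Subgroup.mem_subgroupOf, MonoidHom.mem_ker]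
      constructor
      · intro h4; exact congrArg Subtype.val h4
      · intro h4; exact Subtype.ext h4
    rw [h3]
    rfl

/-- `C_S(N) = N`. -/
theorem ker_inf (hr : Nat.card ((act N).ker ⊓ (S : Subgroup G) : Subgroup G) ≤ Nat.card N) :
    (act N).ker ⊓ (S : Subgroup G) = N :=
  (Subgroup.eq_of_le_of_card_ge (le_inf (le_ker h) h.le_S) hr).symm

theorem ker_eq (hr : Nat.card ((act N).ker ⊓ (S : Subgroup G) : Subgroup G) ≤ Nat.card N) :
    (act N).ker = N := by
  have h1 := ker_inf h hr
  have h2 : (act N).ker ≤ (S : Subgroup G) := by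
    apply Cfsg.Agent.LFourA.OddFree.le_of_central h.core S
    intro y hy hyS g hg
    have hyN : y ∈ N := by rw [← h1]; exact ⟨hy, hyS⟩
    exact mem_ker.1 hg y hyN
  rwa [inf_eq_left.2 h2] at h1

/-- The complement. -/
theorem exists_compl (hr : Nat.card ((act N).ker ⊓ (S : Subgroup G) : Subgroup G) ≤ Nat.card N) :
    ∃ H : Subgroup G, Subgroup.IsComplement' N H := by
  have hp : Fact (Nat.Prime 2) := ⟨Nat.prime_two⟩
  have hki := ker_inf h hr
  have hA : ∃ A : Subgroup G, A ≤ (S : Subgroup G) ∧ A ⊓ N = ⊥ ∧ N ⊔ A = (S : Subgroup G) := by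
    rcases h.card_cases with h8 | h16
    · refine Cfsg.Agent.H310.M64Split.exists_compl8 h.tsp N h.le_S h8 h.sq
        (fun x _ y hy => h.nor.conj_mem y hy x) ?_
      intro x hx hxy
      have h1 : x ∈ (act N).ker ⊓ (S : Subgroup G) := ⟨mem_ker.2 hxy, hx⟩
      rwa [hki] at h1
    · refine Cfsg.Agent.H310.M64Split.exists_compl16 h.tsp N h.le_S h16 h.sq ?_
      intro hb
      have h1 := Cfsg.Agent.H310.Sp4Norm.card_le_of_base h.tsp hb h.sq
      omega
  obtain ⟨A, hAS, hAN, hNA⟩ := hA
  have hcomm : IsMulCommutative N := ⟨⟨fun x y => Subtype.ext (h.comm x x.2 y y.2)⟩⟩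
  apply Cfsg.Agent.S0051.result N (S : Subgroup G) h.le_S _ A hAS hAN hNA
  obtain ⟨n, hn⟩ := IsPGroup.iff_card.1 h.isPGroup
  rw [hn]
  exact Nat.Coprime.pow_left n ((Nat.Prime.coprime_iff_not_dvd Nat.prime_two).2 S.not_dvd_index)

omit h [Finite G] in
/-- A complement of `N` maps isomorphically onto the image of `G`. -/
theorem compl_equiv (hk : (act N).ker = N) {H : Subgroup G} (hH : Subgroup.IsComplement' N H) :
    Nonempty (H ≃* (act N).range) := by
  let ψ : H →* (act N).range := (act N).rangeRestrict.comp H.subtype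
  refine ⟨MulEquiv.ofBijective ψ ⟨?_, ?_⟩⟩
  · rw [← MonoidHom.ker_eq_bot_iff, eq_bot_iff]
    intro x hx
    have h1 : (x : G) ∈ (act N).ker := by
      rw [MonoidHom.mem_ker]
      exact congrArg Subtype.val (MonoidHom.mem_ker.1 hx)
    rw [hk] at h1
    have h2 : (x : G) ∈ N ⊓ H := ⟨h1, x.2⟩
    rw [hH.disjoint.eq_bot, Subgroup.mem_bot] at h2
    exact Subtype.ext h2
  · rintro ⟨_, g, rfl⟩
    have h1 : g ∈ N ⊔ H := by rw [hH.sup_eq_top]; exact Subgroup.mem_top g
    rw [← SetLike.mem_coe, Subgroup.normal_mul] at h1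
    obtain ⟨n, hn, x, hx, rfl⟩ := h1
    refine ⟨⟨x, hx⟩, Subtype.ext ?_⟩
    change act N x = act N (n * x)
    have h2 : act N n = 1 := MonoidHom.mem_ker.1 (by rw [hk]; exact hn)
    rw [map_mul, h2, one_mul]

/-- **Order 8.** -/
theorem order8 (h8 : Nat.card N = 8) :
    ∃ E K : Subgroup G, E.Normal ∧ Cfsg.IsElementaryAbelian 2 E ∧ Nat.card ↥E = 8 ∧
        Nonempty (↥K ≃* GL (Fin 3) (ZMod 2)) ∧ Subgroup.IsComplement' E K ∧
        K ⊓ Subgroup.centralizer (E : Set G) = ⊥ := by
  have hns := not_solvable h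
  have hd : Nat.card (act N).range ∣ 168 :=
    Cfsg.Agent.GH.GL4Seven.dvd_of_le (φ := (act N).range.subtype) (act N).range.subtype_injective
      (fun v => Subtype.ext (h.sq v v.2)) (by omega)
  have hc := Cfsg.Agent.GH.C2SevenTop.card_of_dvd hns hd
  obtain ⟨r, m, hm, hrm, hr, -⟩ := exists_rm h
  have hr8 : 8 ∣ r := by
    have h1 : 8 ∣ r * m := by rw [← hrm, hc]; norm_num
    have h2 : Nat.Coprime 8 m := by
      have : Nat.Coprime (2 ^ 3) m := Nat.Coprime.pow_left 3 (Nat.coprime_two_left.2 hm)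
      exact this
    exact h2.dvd_of_dvd_mul_right h1
  have hle : Nat.card ((act N).ker ⊓ (S : Subgroup G) : Subgroup G) ≤ Nat.card N := by
    rw [h8]
    obtain ⟨c, rfl⟩ := hr8
    have hc0 : c ≠ 0 := by rintro rfl; omega
    have : 1 ≤ c := by omega
    nlinarith
  have hk := ker_eq h hle
  obtain ⟨H, hH⟩ := exists_compl h hle
  obtain ⟨e⟩ := compl_equiv hk hH
  have hnt : Nontrivial (act N).range := by
    rw [← Finite.one_lt_card_iff_nontrivial, hc]; norm_num
  have hsimple : IsSimpleGroup (act N).range :=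
    { exists_pair_ne := hnt.exists_pair_ne
      eq_bot_or_eq_top_of_normal := fun M hM => Cfsg.Agent.GH.C2SevenTop.simple_of_dvd hns hd M hM }
  obtain ⟨e'⟩ := Cfsg.Agent.ThType.CentSevenGL.nonempty_equiv (Y := (act N).range) hc
  refine ⟨N, H, hNn, ⟨⟨⟨fun x y => Subtype.ext (h.comm x x.2 y y.2)⟩⟩, fun x hx => by rw [pow_two]; exact h.sq x hx⟩,
    h8, ⟨e.trans e'⟩, hH, ?_⟩
  rw [eq_bot_iff, ← hH.disjoint.eq_bot]
  rintro x ⟨hxH, hxC⟩
  refine ⟨?_, hxH⟩
  rw [← hk]
  apply mem_ker.2
  intro y hy
  exact (Subgroup.mem_centralizer_iff.1 hxC y hy).symm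

/-- **Order 16**: the order of the group induced on `N`. -/
theorem order16_card (h16 : Nat.card N = 16) :
    Nat.card ((act N).ker ⊓ (S : Subgroup G) : Subgroup G) ≤ Nat.card N ∧ Nat.card (act N).range = 60 ∧
    Nat.card ((S : Subgroup G).map (act N).rangeRestrict) = 4 := by
  classical
  have hp : Fact (Nat.Prime 2) := ⟨Nat.prime_two⟩
  have hns := not_solvable h
  have hperf := range_perfect h
  obtain ⟨r, m, hm, hrm, hr, hRcard⟩ := exists_rm h
  have hge : 16 ≤ Nat.card ((act N).ker ⊓ (S : Subgroup G) : Subgroup G) := by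
    rw [← h16]
    exact Nat.le_of_dvd Nat.card_pos (Subgroup.card_dvd_of_le (le_inf (le_ker h) h.le_S))
  have hr4 : r ≤ 4 := by
    by_contra hcon
    have : 5 ≤ r := by omega
    nlinarith
  have hr0 : r ≠ 0 := by rintro rfl; omega
  have hRS : ∀ R : Sylow 2 (act N).range, Nat.card (R : Subgroup (act N).range) = r := by
    intro R
    have h1 : Nat.card (R : Subgroup (act N).range) =
        Nat.card (Sylow.mapSurjective (act N).rangeRestrict_surjective S : Subgroup (act N).range) :=
      Nat.card_congr (Sylow.equiv _ _).toEquiv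
    rw [h1, Sylow.coe_mapSurjective, hRcard]
  have hr_eq : r = 4 := by
    have h1 : r = 1 ∨ r = 2 ∨ r = 3 ∨ r = 4 := by omega
    rcases h1 with rfl | rfl | rfl | rfl
    · exfalso
      -- `S` centralises `N`
      have h2 : (S : Subgroup G) ≤ (act N).ker := by
        have h3 : (act N).ker ⊓ (S : Subgroup G) = (S : Subgroup G) := by
          apply Subgroup.eq_of_le_of_card_ge inf_le_right
          rw [card_S h]; omega
        rw [← h3]; exact inf_le_left
      have h3 : (N : Set G) ⊆ ({1, f (z 1) 1} : Set G) := by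
        intro x hx
        have := h.fix_S hx (fun y hy => (mem_ker.1 (h2 hy) x hx).symm)
        simpa using this
      have h4 := Set.ncard_le_ncard h3 (Set.toFinite _)
      have h5 : (N : Set G).ncard = 16 := by rw [← h16, ← Nat.card_coe_set_eq]; rfl
      have h6 : ({1, f (z 1) 1} : Set G).ncard ≤ 2 := by
        refine (Set.ncard_insert_le _ _).trans ?_
        rw [Set.ncard_singleton]
      omega
    · exfalso
      obtain ⟨R⟩ : Nonempty (Sylow 2 (act N).range) := inferInstance
      have hR := hRS R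
      have : Group.IsPerfect (act N).range := ⟨hperf⟩
      refine Cfsg.Agent.SignalizersComponents.QsBasic.not_isCyclic_sylow ?_ R (isCyclic_of_prime_card hR)
      rw [hrm]; exact (even_two).mul_right m
    · omega
    · rfl
  subst hr_eq
  have hle : Nat.card ((act N).ker ⊓ (S : Subgroup G) : Subgroup G) ≤ Nat.card N := by omega
  refine ⟨hle, ?_, hRcard⟩
  -- no normal 2-subgroups
  have hno2 : ∀ M : Subgroup (act N).range, M.Normal → IsPGroup 2 M → M = ⊥ := by
    intro M hM hM2
    let W : Subgroup G :=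
      { carrier := {x | ∃ hx : x ∈ N, ∀ y ∈ M, (y : MulAut N) ⟨x, hx⟩ = ⟨x, hx⟩}
        mul_mem' := by
          rintro x y ⟨hx, hx'⟩ ⟨hy, hy'⟩
          refine ⟨N.mul_mem hx hy, fun g hg => ?_⟩
          have h1 : (⟨x * y, N.mul_mem hx hy⟩ : N) = ⟨x, hx⟩ * ⟨y, hy⟩ := rfl
          rw [h1, map_mul, hx' g hg, hy' g hg]
        one_mem' := ⟨N.one_mem, fun g hg => map_one _⟩
        inv_mem' := by
          rintro x ⟨hx, hx'⟩
          refine ⟨N.inv_mem hx, fun g hg => ?_⟩
          have h1 : (⟨x⁻¹, N.inv_mem hx⟩ : N) = ⟨x, hx⟩⁻¹ := rfl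
          rw [h1, map_inv, hx' g hg] }
    have hWN : W ≤ N := fun x hx => hx.1
    have hWn : W.Normal := by
      refine ⟨?_⟩
      rintro x ⟨hx, hx'⟩ g
      refine ⟨hNn.conj_mem x hx g, fun y hy => ?_⟩
      have h1 : (⟨g * x * g⁻¹, hNn.conj_mem x hx g⟩ : N) = act N g ⟨x, hx⟩ := by
        apply Subtype.ext; rw [act_apply]
      rw [h1]
      let γ : (act N).range := ⟨act N g, g, rfl⟩
      have h2 := hx' (γ⁻¹ * y * γ⁻¹⁻¹) (hM.conj_mem y hy γ⁻¹)
      have h3 : ((γ⁻¹ * y * γ⁻¹⁻¹ : (act N).range) : MulAut N) = (act N g)⁻¹ * y * act N g := by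
        rw [inv_inv]; rfl
      rw [h3] at h2
      have h4 : (y : MulAut N) (act N g ⟨x, hx⟩) = act N g (((act N g)⁻¹ * y * act N g) ⟨x, hx⟩) := by
        change _ = (act N g * ((act N g)⁻¹ * y * act N g)) ⟨x, hx⟩
        rw [← mul_assoc, ← mul_assoc, mul_inv_cancel, one_mul]
        rfl
      rw [h4, h2]
    have hW0 : W ≠ ⊥ := by
      have h2N : 2 ∣ Nat.card N := by rw [h16]; norm_num
      have h1 : (1 : N) ∈ MulAction.fixedPoints M N := fun g => map_one ((g : (act N).range) : MulAut N)
      obtain ⟨b, hb, hb1⟩ := hM2.exists_fixed_point_of_prime_dvd_card_of_fixed_point N h2N h1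
      intro hW
      have h2 : (b : G) ∈ W := ⟨b.2, fun y hy => hb ⟨y, hy⟩⟩
      rw [hW, Subgroup.mem_bot] at h2
      exact hb1 (Subtype.ext h2.symm)
    rcases h.min W hWn hWN with h1 | h1
    · exact absurd h1 hW0
    · rw [eq_bot_iff]
      intro y hy
      rw [Subgroup.mem_bot]
      apply Subtype.ext
      change (y : MulAut N) = 1
      ext x
      have h2 : (x : G) ∈ W := by rw [h1]; exact x.2
      obtain ⟨hx, hx'⟩ := h2
      exact congrArg Subtype.val (hx' y hy)
  have hinj := (act N).range.subtype_injective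
  have hsq : ∀ v : N, v * v = 1 := fun v => Subtype.ext (h.sq v v.2)
  obtain ⟨m', hm'⟩ := hm
  have h5 : 5 ∣ Nat.card (act N).range := by
    by_contra hcon
    have := (Cfsg.Agent.GH.GL4Seven.card_and_simple (φ := (act N).range.subtype) hinj hsq (by omega) hns hcon hno2).1
    omega
  -- the natural case is impossible
  have hnat : ∀ (U : Subgroup N) (a d : (act N).range), NatD (act N).range.subtype U a d →
      Nat.card (closure ({a, d * a * d⁻¹} : Set (act N).range)) = 4 → False := by
    intro U a d hD hF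
    have hF2 : IsPGroup 2 (closure ({a, d * a * d⁻¹} : Set (act N).range)) :=
      IsPGroup.of_card (n := 2) (by rw [hF]; norm_num)
    obtain ⟨R', hR'⟩ := hF2.exists_le_sylow
    have hRF : closure ({a, d * a * d⁻¹} : Set (act N).range) = (R' : Subgroup (act N).range) := by
      apply Subgroup.eq_of_le_of_card_ge hR'
      rw [hRS R', hF]
    let R : Sylow 2 (act N).range := Sylow.mapSurjective (act N).rangeRestrict_surjective S
    obtain ⟨y, hy⟩ := MulAction.exists_smul_eq (act N).range R R'
    -- `S` fixes `y⁻¹ U`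
    have hfix : ∀ u ∈ U, (((y⁻¹ : (act N).range) : MulAut N) u : G) = 1 ∨
        (((y⁻¹ : (act N).range) : MulAut N) u : G) = f (z 1) 1 := by
      intro u hu
      apply h.fix_S (((y⁻¹ : (act N).range) : MulAut N) u).2
      intro g hg
      let γ : (act N).range := (act N).rangeRestrict g
      have h1 : γ ∈ (R : Subgroup (act N).range) := by
        rw [Sylow.coe_mapSurjective]; exact ⟨g, hg, rfl⟩
      have h2 : y * γ * y⁻¹ ∈ (R' : Subgroup (act N).range) := by
        rw [← hy]
        change y * γ * y⁻¹ ∈ ((y • R : Sylow 2 (act N).range) : Subgroup (act N).range)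
        rw [Sylow.coe_subgroup_smul]
        exact Subgroup.smul_mem_pointwise_smul _ (MulAut.conj y) _ h1
      rw [← hRF] at h2
      have h3 := natD_fix hD _ h2 u hu
      have h4 : (γ : MulAut N) (((y⁻¹ : (act N).range) : MulAut N) u) = ((y⁻¹ : (act N).range) : MulAut N) u := by
        have h5 : (((act N).range.subtype (y * γ * y⁻¹)) : MulAut N) u =
            (y : MulAut N) ((γ : MulAut N) (((y⁻¹ : (act N).range) : MulAut N) u)) := rfl
        rw [h5] at h3
        have h6 := congrArg (fun v => ((y⁻¹ : (act N).range) : MulAut N) v) h3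
        have h7 : ((y⁻¹ : (act N).range) : MulAut N) ((y : MulAut N) ((γ : MulAut N)
            (((y⁻¹ : (act N).range) : MulAut N) u))) = (γ : MulAut N) (((y⁻¹ : (act N).range) : MulAut N) u) :=
          MulEquiv.symm_apply_apply (y : MulAut N) _
        rw [← h7]; exact h6
      have h8 := act_apply g (((y⁻¹ : (act N).range) : MulAut N) u)
      have h9 : act N g (((y⁻¹ : (act N).range) : MulAut N) u) = ((y⁻¹ : (act N).range) : MulAut N) u := h4
      rw [h9] at h8
      exact (eq_mul_inv_iff_mul_eq.1 h8)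
    have hUc : Nat.card U ≤ 2 := by
      let F : U → ({1, f (z 1) 1} : Set G) := fun u =>
        ⟨((y⁻¹ : (act N).range) : MulAut N) u, by
          have := hfix u u.2
          simpa using this⟩
      have hFi : Function.Injective F := by
        intro u v huv
        have h1 := congrArg Subtype.val huv
        have h2 : ((y⁻¹ : (act N).range) : MulAut N) u = ((y⁻¹ : (act N).range) : MulAut N) v := Subtype.ext h1
        exact Subtype.ext (((y⁻¹ : (act N).range) : MulAut N).injective h2)
      refine (Nat.card_le_card_of_injective F hFi).trans ?_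
      rw [Nat.card_coe_set_eq]
      refine (Set.ncard_insert_le _ _).trans ?_
      rw [Set.ncard_singleton]
    rw [hD.cardU] at hUc
    omega
  rcases Cfsg.Agent.GH.GL4.gl4_five (φ := (act N).range.subtype) hinj h16 hsq hns h5 with
    h1 | h1 | h1 | h1 | h1
  · obtain ⟨U, a, d, hD, hF, -⟩ := h1
    exact (hnat U a d hD hF).elim
  · obtain ⟨U, a, d, t, hD, hF, -⟩ := h1
    exact (hnat U a d hD hF).elim
  · obtain ⟨U, a, d, t, hD, hF, -⟩ := h1
    exact (hnat U a d hD hF).elim
  · obtain ⟨-, -, -, -, -, -, -, -, -, h60, -⟩ := h1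
    exact h60
  · exfalso
    obtain ⟨-, -, -, -, -, -, -, -, -, -, -, -, -, -, -, -, -, -, -, -, -, -, -, h120, -⟩ := h1
    omega

/-- **Order 16.** -/
theorem order16 (h16 : Nat.card N = 16) :
    ∃ E K : Subgroup G, E.Normal ∧ Cfsg.IsElementaryAbelian 2 E ∧ Nat.card ↥E = 16 ∧
        Nonempty (↥K ≃* ↥(alternatingGroup (Fin 5))) ∧ Subgroup.IsComplement' E K ∧
        ¬ (K ≤ Subgroup.centralizer (E : Set G)) ∧
        ∃ e₁ ∈ E, ∃ e₂ ∈ E, e₁ ≠ 1 ∧ e₂ ≠ 1 ∧ ∀ k ∈ K, k * e₁ * k⁻¹ ≠ e₂ := by
  classical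
  have hp : Fact (Nat.Prime 2) := ⟨Nat.prime_two⟩
  have hns := not_solvable h
  have hperf := range_perfect h
  obtain ⟨hle, h60, hR4⟩ := order16_card h h16
  have hk := ker_eq h hle
  obtain ⟨H, hH⟩ := exists_compl h hle
  obtain ⟨e⟩ := compl_equiv hk hH
  obtain ⟨e'⟩ := Cfsg.Agent.H352.Order120.alt5_of_card_60 h60 hns
  refine ⟨N, H, hNn, ⟨⟨⟨fun x y => Subtype.ext (h.comm x x.2 y y.2)⟩⟩, fun x hx => by rw [pow_two]; exact h.sq x hx⟩,
    h16, ⟨e.trans e'⟩, hH, ?_, ?_⟩
  · intro hHC
    have h1 : H ≤ N := by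
      rw [← hk]
      intro x hx
      apply mem_ker.2
      intro y hy
      exact (Subgroup.mem_centralizer_iff.1 (hHC hx) y hy).symm
    have h2 : H = ⊥ := by
      rw [eq_bot_iff, ← hH.disjoint.eq_bot]
      exact le_inf h1 le_rfl
    have h3 : Nat.card H = 60 := by rw [← h60]; exact Nat.card_congr e.toEquiv
    rw [h2, Subgroup.card_bot] at h3
    omega
  · by_contra hcon
    push Not at hcon
    -- transitivity of the image on `N ∖ {1}`
    have htN := h.t_mem
    let τ : N := ⟨f (z 1) 1, htN⟩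
    have hτ1 : τ ≠ 1 := fun h1 => h.tsp.t_ne_one (congrArg Subtype.val h1)
    have horb : MulAction.orbit (act N).range τ = {x | x ≠ 1} := by
      ext x
      constructor
      · rintro ⟨y, rfl⟩ hx
        apply hτ1
        have h1 : (y : MulAut N) τ = (y : MulAut N) 1 := by rw [map_one]; exact hx
        exact (y : MulAut N).injective h1
      · intro hx
        obtain ⟨g, -, hg⟩ := hcon τ τ.2 x x.2 (fun h1 => hτ1 (Subtype.ext h1)) (fun h1 => hx (Subtype.ext h1))
        refine ⟨⟨act N g, g, rfl⟩, ?_⟩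
        apply Subtype.ext
        change (act N g τ : G) = x
        rw [act_apply, hg]
    have hidx : (MulAction.stabilizer (act N).range τ).index = 15 := by
      rw [MulAction.index_stabilizer, horb]
      have h1 : ({x | x ≠ 1} : Set N) = Set.univ \ {1} := by ext x; simp
      rw [h1, Set.ncard_sdiff_singleton_of_mem (Set.mem_univ _), Set.ncard_univ, h16]
    have hst : Nat.card (MulAction.stabilizer (act N).range τ) = 4 := by
      have h1 := Subgroup.card_mul_index (MulAction.stabilizer (act N).range τ)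
      rw [hidx, h60] at h1
      omega
    let R : Sylow 2 (act N).range := Sylow.mapSurjective (act N).rangeRestrict_surjective S
    have hRmem : ∀ y, y ∈ (R : Subgroup (act N).range) ↔ ∃ g ∈ (S : Subgroup G), (act N).rangeRestrict g = y := by
      intro y
      rw [Sylow.coe_mapSurjective]; exact Iff.rfl
    have hRcard : Nat.card (R : Subgroup (act N).range) = 4 := by rw [Sylow.coe_mapSurjective]; exact hR4
    have hRst : (R : Subgroup (act N).range) = MulAction.stabilizer (act N).range τ := by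
      apply Subgroup.eq_of_le_of_card_ge
      · intro y hy
        obtain ⟨g, hg, rfl⟩ := (hRmem y).1 hy
        rw [MulAction.mem_stabilizer_iff]
        apply Subtype.ext
        change (act N g τ : G) = τ
        rw [act_apply, mul_inv_eq_iff_eq_mul]
        exact (h.tsp.t_comm hg).symm
      · rw [hst, hRcard]
    -- `R` is self-normalising
    have hRn : Subgroup.normalizer ((R : Subgroup (act N).range) : Set (act N).range) ≤ R := by
      intro n hn
      have hfix : (((n : MulAut N) τ : N) : G) = 1 ∨ (((n : MulAut N) τ : N) : G) = f (z 1) 1 := by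
        apply h.fix_S ((n : MulAut N) τ).2
        intro g hg
        have h1 : (act N).rangeRestrict g ∈ (R : Subgroup (act N).range) := (hRmem _).2 ⟨g, hg, rfl⟩
        have h2 : n⁻¹ * (act N).rangeRestrict g * n⁻¹⁻¹ ∈ (R : Subgroup (act N).range) :=
          (Subgroup.mem_normalizer_iff.1 (inv_mem hn) _).1 h1
        rw [hRst, MulAction.mem_stabilizer_iff] at h2
        have h3 : (n : MulAut N)⁻¹ (act N g ((n : MulAut N) τ)) = τ := by
          have h4 : (n⁻¹ * (act N).rangeRestrict g * n⁻¹⁻¹) • τ =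
            ((n⁻¹ * (act N).rangeRestrict g * n⁻¹⁻¹ : (act N).range) : MulAut N) τ := rfl
          rw [h4, inv_inv] at h2
          exact h2
        have h4 : act N g ((n : MulAut N) τ) = (n : MulAut N) τ := by
          have h5 := congrArg (fun v => (n : MulAut N) v) h3
          have h6 : (n : MulAut N) ((n : MulAut N)⁻¹ (act N g ((n : MulAut N) τ))) = act N g ((n : MulAut N) τ) :=
            MulEquiv.apply_symm_apply (n : MulAut N) _
          rw [← h6]; exact h5
        have h8 := act_apply g ((n : MulAut N) τ)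
        rw [h4] at h8
        exact eq_mul_inv_iff_mul_eq.1 h8
      have hn2 : (n : MulAut N) τ = τ := by
        rcases hfix with h1 | h1
        · exfalso
          apply hτ1
          have h2 : (n : MulAut N) τ = (n : MulAut N) 1 := by rw [map_one]; exact Subtype.ext h1
          exact (n : MulAut N).injective h2
        · exact Subtype.ext h1
      have : n ∈ MulAction.stabilizer (act N).range τ := by
        rw [MulAction.mem_stabilizer_iff]; exact hn2
      rw [← hRst] at this
      exact this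
    have hRc : IsMulCommutative (R : Subgroup (act N).range) :=
      IsPGroup.isMulCommutative_of_card_eq_prime_sq (p := 2) (by rw [hRcard]; norm_num)
    have hRcomm : ∀ a b : (R : Subgroup (act N).range), a * b = b * a := fun a b => hRc.is_comm.comm a b
    have hnc : Subgroup.normalizer ((R : Subgroup (act N).range) : Set (act N).range) ≤
        Subgroup.centralizer ((R : Subgroup (act N).range) : Set (act N).range) := by
      intro n hn
      rw [Subgroup.mem_centralizer_iff]
      intro y hy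
      exact congrArg Subtype.val (hRcomm ⟨y, hy⟩ ⟨n, hRn hn⟩)
    have hcompl := MonoidHom.ker_transferSylow_isComplement' R hnc
    have hsolv : Group.IsSolvable (R : Subgroup (act N).range) := Group.isSolvable_of_comm hRcomm
    have htop : (MonoidHom.transferSylow R hnc).ker = ⊤ := by
      rw [eq_top_iff]
      intro y _
      exact MonoidHom.mem_ker.2 (hom_eq_one hperf _ y)
    rw [htop, isComplement'_top_left] at hcompl
    rw [hcompl, Subgroup.card_bot] at hRcard
    omega

end One

/-- **The affine case.** -/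
theorem main {G : Type*} [Group G] [Finite G] {S : Sylow 2 G} {k : ℕ} {f : Q k → Q k → G} {s : G} {N : Subgroup G}
    (h : Aff S f s N) :
    (∃ E K : Subgroup G, E.Normal ∧ Cfsg.IsElementaryAbelian 2 E ∧ Nat.card ↥E = 16 ∧
        Nonempty (↥K ≃* ↥(alternatingGroup (Fin 5))) ∧ Subgroup.IsComplement' E K ∧
        ¬ (K ≤ Subgroup.centralizer (E : Set G)) ∧
        ∃ e₁ ∈ E, ∃ e₂ ∈ E, e₁ ≠ 1 ∧ e₂ ≠ 1 ∧ ∀ k ∈ K, k * e₁ * k⁻¹ ≠ e₂) ∨
    (∃ E K : Subgroup G, E.Normal ∧ Cfsg.IsElementaryAbelian 2 E ∧ Nat.card ↥E = 8 ∧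
        Nonempty (↥K ≃* GL (Fin 3) (ZMod 2)) ∧ Subgroup.IsComplement' E K ∧
        K ⊓ Subgroup.centralizer (E : Set G) = ⊥) := by
  obtain rfl := h.k_eq
  have := h.nor
  rcases h.card_cases with h8 | h16
  · exact Or.inr (order8 h h8)
  · exact Or.inl (order16 h h16)

end Cfsg.Agent.H310.PspAffine
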