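import Cfsg.Agent.H310.PspAffine

/-!
# Perfect groups with Sylow 2-subgroups of type `PSp_4(q)`: reduction to simple groups
-/

set_option autoImplicit false

namespace Cfsg.Agent.H310.PspReduce

open Subgroup Cfsg.Agent.SylowSp4.Coord Cfsg.Agent.SylowSp4.Base Cfsg.Agent.H310.PerfTools

universe u

/-- A perfect group with `O(G) = Z(G) = 1` and Sylow 2-subgroups of type `PSp_4` is simple or affine. -/
theorem reduce {G : Type u} [Group G] [Finite G] (hG : commutator G = ⊤) (hO : Cfsg.oddCore G = ⊥)
    (hZ : Subgroup.center G = ⊥)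
    (hSch : ∀ (K : Type u) [Group K] [Finite K] [IsSimpleGroup K], ¬ IsMulCommutative K →
      Cfsg.Agent.Schreier.Basic.Sch K)
    (S : Sylow 2 G) {k : ℕ} {f : Q k → Q k → G} {s : G} (h : TSp (S : Subgroup G) k f s) :
    IsSimpleGroup G ∨
    (∃ E K : Subgroup G, E.Normal ∧ Cfsg.IsElementaryAbelian 2 E ∧ Nat.card ↥E = 16 ∧
        Nonempty (↥K ≃* ↥(alternatingGroup (Fin 5))) ∧ Subgroup.IsComplement' E K ∧
        ¬ (K ≤ Subgroup.centralizer (E : Set G)) ∧
        ∃ e₁ ∈ E, ∃ e₂ ∈ E, e₁ ≠ 1 ∧ e₂ ≠ 1 ∧ ∀ k ∈ K, k * e₁ * k⁻¹ ≠ e₂) ∨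
    (∃ E K : Subgroup G, E.Normal ∧ Cfsg.IsElementaryAbelian 2 E ∧ Nat.card ↥E = 8 ∧
        Nonempty (↥K ≃* GL (Fin 3) (ZMod 2)) ∧ Subgroup.IsComplement' E K ∧
        K ⊓ Subgroup.centralizer (E : Set G) = ⊥) := by
  classical
  have hp : Fact (Nat.Prime 2) := ⟨Nat.prime_two⟩
  set t : G := f (z k) 1 with ht
  have ht1 : t ≠ 1 := h.t_ne_one
  have htt : t * t = 1 := h.t_sq
  -- every nontrivial normal subgroup contains `t`
  have hall : ∀ M : Subgroup G, M.Normal → M ≠ ⊥ → t ∈ M := by
    intro M hM hM0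
    have h1 : M ⊓ (S : Subgroup G) ≠ ⊥ := by
      intro h2
      apply hM0
      rw [eq_bot_iff, ← hO]
      apply Cfsg.Agent.Lib.Cores.le_pPrimeCore hM
      rw [Nat.coprime_comm]
      refine (Nat.Prime.coprime_iff_not_dvd Nat.prime_two).2 ?_
      have h3 := Cfsg.Agent.Lib.SylowNormalInf.not_dvd_relIndex S M
      have h4 := Cfsg.Agent.Lib.SylowNormalInf.card_inf_mul_relIndex (S : Subgroup G) M
      rw [inf_comm, h2, Subgroup.card_bot, one_mul] at h4
      rwa [h4] at h3
    have h2 := Cfsg.Agent.H310.Sp4Norm.t_mem_of_normal h inf_le_right h1 (by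
      rintro x hx y ⟨hyM, hyS⟩
      exact ⟨hM.conj_mem y hyM x, (S : Subgroup G).mul_mem ((S : Subgroup G).mul_mem hx hyS)
        ((S : Subgroup G).inv_mem hx)⟩)
    exact h2.1
  -- the minimal normal subgroup
  let N : Subgroup G := Subgroup.normalClosure {t}
  have hNn : N.Normal := Subgroup.normalClosure_normal
  have htN : t ∈ N := Subgroup.subset_normalClosure rfl
  have hN0 : N ≠ ⊥ := by
    intro h1
    rw [h1, Subgroup.mem_bot] at htN
    exact ht1 htN
  have hmin : ∀ M : Subgroup G, M.Normal → M ≤ N → M = ⊥ ∨ M = N := by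
    intro M hM hMN
    by_cases h1 : M = ⊥
    · exact Or.inl h1
    · right
      apply le_antisymm hMN
      apply Subgroup.normalClosure_le_normal
      rw [Set.singleton_subset_iff]
      exact hall M hM h1
  by_cases hab : ∀ x ∈ N, ∀ y ∈ N, Commute x y
  · -- abelian
    right
    have hsq : ∀ x ∈ N, x * x = 1 := by
      intro x hx
      have hx' : x ∈ Subgroup.closure (Group.conjugatesOfSet {t}) := hx
      induction hx' using Subgroup.closure_induction with
      | mem y hy =>
        rw [Group.mem_conjugatesOfSet_iff] at hy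
        obtain ⟨a, ha, hay⟩ := hy
        rw [Set.mem_singleton_iff] at ha
        subst ha
        obtain ⟨c, rfl⟩ := isConj_iff.1 hay
        calc c * t * c⁻¹ * (c * t * c⁻¹) = c * (t * t) * c⁻¹ := by group
          _ = 1 := by rw [htt]; group
      | one => exact one_mul 1
      | mul a b ha hb iha ihb =>
        have haN : a ∈ N := ha
        have hbN : b ∈ N := hb
        have h1 := hab a haN b hbN
        rw [h1.symm.mul_mul_mul_comm, iha haN, ihb hbN, one_mul]
      | inv a ha iha =>
        have haN : a ∈ N := ha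
        rw [← mul_inv_rev, iha haN, inv_one]
    exact Cfsg.Agent.H310.PspAffine.main (S := S) (f := f) (s := s) (N := N)
      { perf := hG, core := hO, cen := hZ, tsp := h, nor := hNn, ne := hN0, min := hmin, sq := hsq }
  · -- nonabelian
    left
    have hrank : ∀ E : Subgroup G, (∀ x ∈ E, x * x = 1) → Nat.card E < 64 := by
      intro E hE
      have hE2 : IsPGroup 2 E := by
        intro x
        refine ⟨1, ?_⟩
        rw [pow_one, pow_two]
        exact Subtype.ext (hE x x.2)
      obtain ⟨P, hP⟩ := hE2.exists_le_sylow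
      obtain ⟨g, hg⟩ := MulAction.exists_smul_eq G P S
      let E' : Subgroup G := E.map (MulAut.conj g).toMonoidHom
      have hE'S : E' ≤ (S : Subgroup G) := by
        rintro _ ⟨x, hx, rfl⟩
        rw [← hg]
        change g * x * g⁻¹ ∈ ((g • P : Sylow 2 G) : Subgroup G)
        rw [Sylow.coe_subgroup_smul]
        exact Subgroup.smul_mem_pointwise_smul _ (MulAut.conj g) _ (hP hx)
      have hE'2 : ∀ x ∈ E', x * x = 1 := by
        rintro _ ⟨x, hx, rfl⟩
        rw [← map_mul, hE x hx, map_one]
      have h1 := Cfsg.Agent.H310.Sp4Norm.card_le h hE'S hE'2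
      have h2 : Nat.card E' = Nat.card E :=
        (Nat.card_congr (E.equivMapOfInjective _ (MulAut.conj g).injective).toEquiv).symm
      omega
    have hsimp : IsSimpleGroup N := simple_of_nonabelian hG N hmin hab ht1 htt htN hrank
    have hnc : ¬ IsMulCommutative N := by
      intro h1
      apply hab
      intro x hx y hy
      exact congrArg Subtype.val (h1.is_comm.comm (⟨x, hx⟩ : N) ⟨y, hy⟩)
    have hcen : Subgroup.center N = ⊥ := by
      rcases (inferInstance : (Subgroup.center N).Normal).eq_bot_or_eq_top with h1 | h1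
      · exact h1
      · exfalso
        apply hnc
        refine ⟨⟨fun x y => ?_⟩⟩
        have : y ∈ Subgroup.center N := by rw [h1]; exact Subgroup.mem_top y
        exact Subgroup.mem_center_iff.1 this x
    have hC : Subgroup.centralizer (N : Set G) = ⊥ := by
      by_contra h1
      have h2 := hall _ inferInstance h1
      have h3 : (⟨t, htN⟩ : N) ∈ Subgroup.center N := by
        rw [Subgroup.mem_center_iff]
        intro x
        exact Subtype.ext (Subgroup.mem_centralizer_iff.1 h2 x x.2)
      rw [hcen, Subgroup.mem_bot] at h3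
      exact ht1 (congrArg Subtype.val h3)
    have htop := eq_top_of_schreier hG N hC (hSch N hnc)
    have e : N ≃* G := (MulEquiv.subgroupCongr htop).trans Subgroup.topEquiv
    exact e.symm.isSimpleGroup

end Cfsg.Agent.H310.PspReduce
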