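import Cfsg.Agent.SylowSp4.Base
import Cfsg.Agent.SylowSp4.Facts
import Cfsg.Agent.Characters.CNBasic

/-!
# Sylow 2-subgroups of type `PSp_4(q)`: centre, elementary abelian subgroups, normal elementary abelian subgroups
-/

set_option autoImplicit false

namespace Cfsg.Agent.H310.Sp4Norm

open Cfsg.Agent.SylowSp4.Coord Cfsg.Agent.SylowSp4.Base Cfsg.Agent.SylowSp4.Facts QuaternionGroup

section Quat

variable {k : ℕ}

/-- The centre of the generalized quaternion group. -/
theorem quat_center (hk : 1 ≤ k) {g : Q k} (hg : ∀ x : Q k, g * x = x * g) : g = 1 ∨ g = z k := by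
  rcases g with i | i
  · exact of_a_comm_xa (hg (xa 0))
  · have h1 : (a (qq k) : Q k) * xa i = xa i * a (qq k) := (hg _).symm
    rcases of_a_comm_xa h1 with h2 | h2
    · exact absurd h2 (ne_one_of_sq_z (c_sq hk))
    · exact absurd h2 (ne_z_of_sq_z (c_sq hk))

end Quat

section

variable {G : Type*} [Group G] {S : Subgroup G} {k : ℕ} {f : Q k → Q k → G} {s : G} (h : TSp S k f s)

include h

/-- The centre of `S` is `{1, t}`. -/
theorem central_cases {g : G} (hg : g ∈ S) (hc : ∀ x ∈ S, g * x = x * g) : g = 1 ∨ g = f (z k) 1 := by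
  have hx0 : (xa 0 : Q k) * xa 0 = z k := xa_sq 0
  obtain ⟨γ, δ, -, rfl⟩ := centralizer_root h hg hx0 (hc _ (h.f_mem _ _))
  have hγ : ∀ x : Q k, γ * x = x * γ := by
    intro x
    have h1 := (comm_iff h (α := γ) (β := δ) (γ := x) (δ := 1)).1 (hc _ (h.f_mem _ _))
    rcases h1 with ⟨h1, -⟩ | ⟨-, h1⟩
    · exact h1
    · rw [mul_one, one_mul] at h1
      exact absurd h1 (ne_z_mul δ)
  have hδ : ∀ x : Q k, δ * x = x * δ := by
    intro x
    have h1 := (comm_iff h (α := γ) (β := δ) (γ := 1) (δ := x)).1 (hc _ (h.f_mem _ _))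
    rcases h1 with ⟨-, h1⟩ | ⟨h1, -⟩
    · exact h1
    · rw [mul_one, one_mul] at h1
      exact absurd h1 (ne_z_mul γ)
  rcases quat_center h.hk hγ with rfl | rfl <;> rcases quat_center h.hk hδ with rfl | rfl
  · exact Or.inl h.f_one
  · exact Or.inr h.f_one_z
  · exact Or.inr rfl
  · exact Or.inl h.f_zz

/-- Nontrivial subgroups normalised by `S` contain `t`. -/
theorem t_mem_of_normal [Finite G] {N : Subgroup G} (hNS : N ≤ S) (hN : N ≠ ⊥)
    (hn : ∀ x ∈ S, ∀ y ∈ N, x * y * x⁻¹ ∈ N) : f (z k) 1 ∈ N := by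
  have hp : Fact (Nat.Prime 2) := ⟨Nat.prime_two⟩
  have hS2 : IsPGroup 2 S := IsPGroup.of_card (card_eq h)
  obtain ⟨w, hwN, hw1, hw⟩ := Cfsg.Agent.Characters.CNBasic.exists_mem_center_of_normal S hS2 N
    (hS2.to_le hNS) hN hn
  rcases central_cases h (hNS hwN) (fun x hx => (hw x hx).symm) with h1 | h1
  · exact absurd h1 hw1
  · rwa [← h1]

/-- Elementary abelian subgroups of the base group have order at most 8. -/
theorem card_le_of_base [Finite G] {E : Subgroup G} (hE : E ≤ base h) (hE2 : ∀ x ∈ E, x * x = 1) :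
    Nat.card E ≤ 8 := by
  classical
  have hcomm : ∀ x ∈ E, ∀ y ∈ E, x * y = y * x := by
    intro x hx y hy
    have h3 := hE2 x hx
    have h4 := hE2 y hy
    have h5 := hE2 (x * y) (E.mul_mem hx hy)
    have hxi : x⁻¹ = x := inv_eq_of_mul_eq_one_left h3
    have hyi : y⁻¹ = y := inv_eq_of_mul_eq_one_left h4
    have h6 : (x * y)⁻¹ = x * y := inv_eq_of_mul_eq_one_left h5
    rw [mul_inv_rev, hxi, hyi] at h6
    exact h6.symm
  have hb : ∀ x ∈ E, ∃ α β, x = f α β := fun x hx => (mem_base h).1 (hE hx)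
  by_contra hcon
  push Not at hcon
  set t := f (z k) 1 with ht
  have htt : t * t = 1 := h.t_sq
  have hcard : (8 : ℕ) < (E : Set G).ncard := by rwa [← Nat.card_coe_set_eq]
  have pick : ∀ A : Finset G, A.card ≤ 8 → ∃ x ∈ E, x ∉ A := by
    intro A hA
    by_contra hno
    push Not at hno
    have h1 : (E : Set G) ⊆ (A : Set G) := fun x hx => hno x hx
    have h2 := Set.ncard_le_ncard h1 (Finset.finite_toSet A)
    rw [Set.ncard_coe_finset] at h2
    omega
  obtain ⟨u, huE, hu⟩ := pick {1, t} (by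
    refine (Finset.card_insert_le _ _).trans ?_
    rw [Finset.card_singleton]; omega)
  obtain ⟨v, hvE, hv⟩ := pick {1, t, u, u * t} (Finset.card_le_four.trans (by omega))
  obtain ⟨w, hwE, hw⟩ := pick {1, t, u, u * t, v, v * t, u * v, u * v * t} (by
    refine (Finset.card_insert_le _ _).trans ?_
    refine (Nat.add_le_add_right (Finset.card_insert_le _ _) 1).trans ?_
    refine (Nat.add_le_add_right (Nat.add_le_add_right (Finset.card_le_six) 1) 1).trans ?_
    omega)
  simp only [Finset.mem_insert, Finset.mem_singleton, not_or] at hu hv hw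
  obtain ⟨hu1, hut⟩ := hu
  obtain ⟨hv1, hvt, hvu, hvut⟩ := hv
  obtain ⟨hw1, hwt, hwu, hwut, hwv, hwvt, hwuv, hwuvt⟩ := hw
  have hu2 := hE2 u huE
  have hv2 := hE2 v hvE
  have hw2 := hE2 w hwE
  have huv := hcomm u huE v hvE
  have huw := hcomm u huE w hwE
  have hvw := hcomm v hvE w hwE
  have e1 : ∀ {x y c : G}, x * x = 1 → x * y = c → y = x * c := by
    intro x y c h1 h2
    rw [← h2, ← mul_assoc, h1, one_mul]
  rcases rank h (hb u huE) (hb v hvE) (hb w hwE) hu2 hv2 hw2 huv huw hvw with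
    (h1 | h1) | (h1 | h1) | (h1 | h1) | (h1 | h1) | (h1 | h1) | (h1 | h1) | (h1 | h1)
  · exact hu1 h1
  · exact hut h1
  · exact hv1 h1
  · exact hvt h1
  · exact hw1 h1
  · exact hwt h1
  · exact hvu (by rw [e1 hu2 h1, mul_one])
  · exact hvut (e1 hu2 h1)
  · exact hwu (by rw [e1 hu2 h1, mul_one])
  · exact hwut (e1 hu2 h1)
  · exact hwv (by rw [e1 hv2 h1, mul_one])
  · exact hwvt (e1 hv2 h1)
  · have huv2 := hE2 (u * v) (E.mul_mem huE hvE)
    exact hwuv (by rw [e1 huv2 h1, mul_one])
  · have huv2 := hE2 (u * v) (E.mul_mem huE hvE)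
    exact hwuvt (e1 huv2 h1)

/-- Elementary abelian subgroups of `S` have order at most 16. -/
theorem card_le [Finite G] {E : Subgroup G} (hE : E ≤ S) (hE2 : ∀ x ∈ E, x * x = 1) :
    Nat.card E ≤ 16 := by
  have h1 := card_le_of_base h (E := E ⊓ base h) inf_le_right (fun x hx => hE2 x hx.1)
  have h2 : (E ⊓ base h).relIndex E ≤ 2 := by
    have h3 : (E ⊓ base h).relIndex E = (base h).relIndex E := Subgroup.inf_relIndex_left _ _
    rw [h3]
    have h4 : (base h).relIndex S = 2 := relIndex_base h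
    have h5 := Subgroup.relIndex_le_of_le_right (H := base h) hE (by rw [h4]; norm_num)
    rwa [h4] at h5
  have h3 := Subgroup.relIndex_mul_relIndex ⊥ (E ⊓ base h) E bot_le inf_le_left
  rw [Subgroup.relIndex_bot_left, Subgroup.relIndex_bot_left] at h3
  calc Nat.card E = Nat.card (E ⊓ base h : Subgroup G) * (E ⊓ base h).relIndex E := h3.symm
    _ ≤ 8 * 2 := Nat.mul_le_mul h1 h2
    _ = 16 := by norm_num

/-- For `k ≥ 2` the normal elementary abelian subgroups of `S` have order at most 4. -/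
theorem card_le_four [Finite G] (hk : 2 ≤ k) {N : Subgroup G} (hNS : N ≤ S) (hN2 : ∀ x ∈ N, x * x = 1)
    (hn : ∀ x ∈ S, ∀ y ∈ N, x * y * x⁻¹ ∈ N) : Nat.card N ≤ 4 := by
  classical
  -- elements `f c 1` of `N`
  have hone : ∀ c : Q k, f c 1 ∈ N → c = 1 ∨ c = z k := by
    intro c hc
    have h1 := hN2 _ hc
    rw [h.f_mul, mul_one, ← h.f_one, h.f_eq_iff] at h1
    rcases h1 with ⟨h1, -⟩ | ⟨-, h1⟩
    · exact eq_of_sq_one h1
    · rw [mul_one] at h1
      exact absurd h1.symm z_ne_one
  have hone' : ∀ c : Q k, f 1 c ∈ N → c = 1 ∨ c = z k := by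
    intro c hc
    apply hone
    have h1 := hn s h.s_mem _ hc
    rwa [h.s_conj] at h1
  -- commutators
  have hcl : ∀ α β g : Q k, f α β ∈ N → g * α * g⁻¹ * α⁻¹ = 1 ∨ g * α * g⁻¹ * α⁻¹ = z k := by
    intro α β g hα
    apply hone
    have h1 := hn (f g 1) (h.f_mem _ _) _ hα
    have h2 := N.mul_mem h1 (N.inv_mem hα)
    rw [h.f_inv, h.f_inv, h.f_mul, h.f_mul, h.f_mul] at h2
    convert h2 using 2
    simp
  have hcr : ∀ α β g : Q k, f α β ∈ N → g * β * g⁻¹ * β⁻¹ = 1 ∨ g * β * g⁻¹ * β⁻¹ = z k := by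
    intro α β g hα
    apply hcl β α g
    have h1 := hn s h.s_mem _ hα
    rwa [h.s_conj] at h1
  -- elements with commutators in `⟨z⟩`
  have hcyc : ∀ α : Q k, (∀ g : Q k, g * α * g⁻¹ * α⁻¹ = 1 ∨ g * α * g⁻¹ * α⁻¹ = z k) →
      α = 1 ∨ α = z k ∨ α = c k ∨ α = z k * c k := by
    intro α hα
    rcases α with i | i
    · have h1 := hα (xa 0)
      have h2 : (xa 0 : Q k) * a i * (xa 0)⁻¹ * (a i)⁻¹ = a (-i + -i) := by
        have h3 : (xa 0 : Q k)⁻¹ = z k * xa 0 := inv_of_sq_z (xa_sq 0)
        rw [h3, z_mul_xa, xa_mul_a, xa_mul_xa', show (a i : Q k)⁻¹ = a (-i) from rfl, a_mul_a]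
        congr 1
        have := hh_add (k := k)
        linear_combination this
      rw [h2] at h1
      rcases h1 with h1 | h1
      · have h3 : -i + -i = 0 := QuaternionGroup.a.inj h1
        have h4 : i + i = 0 := by linear_combination -h3
        rcases one_or_z_of_add h4 with h5 | h5
        · exact Or.inl h5
        · exact Or.inr (Or.inl h5)
      · rw [z_def] at h1
        have h3 : -i + -i = hh k := QuaternionGroup.a.inj h1
        have h4 : i + i = hh k := by
          have := hh_add (k := k)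
          linear_combination -h3 - this
        rcases eq_c_of_sq h.hk h4 with h5 | h5
        · exact Or.inr (Or.inr (Or.inl h5))
        · exact Or.inr (Or.inr (Or.inr h5))
    · exfalso
      have h1 := hα (a 1)
      have h2 : (a 1 : Q k) * xa i * (a 1)⁻¹ * (xa i)⁻¹ = a 2 ∨ (a 1 : Q k) * xa i * (a 1)⁻¹ * (xa i)⁻¹ = a (-2) := by
        have h3 : (xa i : Q k)⁻¹ = z k * xa i := inv_of_sq_z (xa_sq i)
        rw [h3, z_mul_xa, a_mul_xa, show (a 1 : Q k)⁻¹ = a (-1) from rfl, xa_mul_a, xa_mul_xa']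
        have h4 := hh_add (k := k)
        first
        | (left; congr 1; linear_combination h4)
        | (right; congr 1; linear_combination h4)
      have hno : ∀ j : ZMod (2 * 2 ^ k), (j = 2 ∨ j = -2) → j ≠ 0 ∧ j ≠ hh k := by
        have hz4 : (4 : ZMod (2 * 2 ^ k)) ≠ 0 := by
          intro h5
          have h6 : ((4 : ℕ) : ZMod (2 * 2 ^ k)) = 0 := by exact_mod_cast h5
          rw [ZMod.natCast_eq_zero_iff] at h6
          have h7 := Nat.le_of_dvd (by norm_num) h6
          have h8 : 2 ^ 2 ≤ 2 ^ k := Nat.pow_le_pow_right (by norm_num) hk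
          omega
        intro j hj
        constructor
        · rintro rfl
          apply hz4
          rcases hj with hj | hj
          · linear_combination (-2) * hj
          · linear_combination 2 * hj
        · rintro rfl
          apply hz4
          have h4 := hh_add (k := k)
          rcases hj with hj | hj
          · linear_combination (-2) * hj + h4
          · linear_combination 2 * hj - h4
      rcases h2 with h2 | h2 <;> rw [h2] at h1 <;> rcases h1 with h1 | h1
      · exact (hno 2 (Or.inl rfl)).1 (QuaternionGroup.a.inj h1)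
      · rw [z_def] at h1; exact (hno 2 (Or.inl rfl)).2 (QuaternionGroup.a.inj h1)
      · exact (hno (-2) (Or.inr rfl)).1 (QuaternionGroup.a.inj h1)
      · rw [z_def] at h1; exact (hno (-2) (Or.inr rfl)).2 (QuaternionGroup.a.inj h1)
  -- `N` lies in the base group
  have hbase : ∀ g ∈ N, ∃ α β, g = f α β := by
    intro g hg
    rcases (h.mem_iff g).1 (hNS hg) with h1 | ⟨α, β, rfl⟩
    · exact h1
    · exfalso
      -- the commutator with `f x 1`
      have h1 : ∀ x : Q k, f (x * 1) (β * x⁻¹ * β⁻¹) ∈ N := by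
        intro x
        have h2 := hn (f x 1) (h.f_mem _ _) _ hg
        have h3 := N.mul_mem h2 (N.inv_mem hg)
        convert h3 using 1
        rw [h.f_inv, mul_inv_rev, h.s_inv, h.f_inv]
        calc f (x * 1) (β * x⁻¹ * β⁻¹) = f (x * α * 1 * α⁻¹) (1 * β * x⁻¹ * β⁻¹) * 1 := by
              rw [mul_one]; group
          _ = f (x * α * 1 * α⁻¹) (1 * β * x⁻¹ * β⁻¹) * (s * s) := by rw [h.s_s]
          _ = f x 1 * f α β * (s * f x⁻¹ 1⁻¹) * (s * f α⁻¹ β⁻¹) := by
              rw [h.s_f, h.s_f, h.f_mul]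
              have e : f (x * α) (1 * β) * (f 1⁻¹ x⁻¹ * s) * (f β⁻¹ α⁻¹ * s) =
                  (f (x * α) (1 * β) * f 1⁻¹ x⁻¹) * (s * f β⁻¹ α⁻¹) * s := by group
              rw [e, h.s_f, h.f_mul]
              have e2 : f (x * α * 1⁻¹) (1 * β * x⁻¹) * (f α⁻¹ β⁻¹ * s) * s =
                  (f (x * α * 1⁻¹) (1 * β * x⁻¹) * f α⁻¹ β⁻¹) * (s * s) := by group
              rw [e2, h.f_mul, inv_one]
          _ = f x 1 * (f α β * s) * f x⁻¹ 1⁻¹ * (s * f α⁻¹ β⁻¹) := by group
      have h2 := h1 (xa 0)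
      rw [mul_one] at h2
      have h3 := hcyc (xa 0) (fun g => hcl _ _ g h2)
      have hcc := c_sq h.hk
      rcases h3 with h3 | h3 | h3 | h3
      · exact ne_one_of_sq_z (xa_sq 0) h3
      · exact ne_z_of_sq_z (xa_sq 0) h3
      · cases h3
      · rw [show c k = a (qq k) from rfl, z_mul_a] at h3
        cases h3
  -- conclusion
  have hsub : (N : Set G) ⊆ ({1, f (z k) 1, f (c k) (c k), f (z k * c k) (c k)} : Set G) := by
    intro g hg
    obtain ⟨α, β, rfl⟩ := hbase g hg
    have hα := hcyc α (fun g => hcl _ _ g hg)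
    have hβ := hcyc β (fun g => hcr _ _ g hg)
    simp only [Set.mem_insert_iff, Set.mem_singleton_iff]
    rcases sq_cases_of_inv h (hN2 _ hg) with ⟨h1, h2⟩ | ⟨h1, h2⟩
    · rcases one_or_t h (hN2 _ hg) (eq_of_sq_one h1) with h3 | h3
      · exact Or.inl h3
      · exact Or.inr (Or.inl h3)
    · have hα' : α = c k ∨ α = z k * c k := by
        rcases hα with h3 | h3 | h3 | h3
        · exact absurd h3 (ne_one_of_sq_z h1)
        · exact absurd h3 (ne_z_of_sq_z h1)
        · exact Or.inl h3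
        · exact Or.inr h3
      have hβ' : β = c k ∨ β = z k * c k := by
        rcases hβ with h3 | h3 | h3 | h3
        · exact absurd h3 (ne_one_of_sq_z h2)
        · exact absurd h3 (ne_z_of_sq_z h2)
        · exact Or.inl h3
        · exact Or.inr h3
      rcases hα' with rfl | rfl <;> rcases hβ' with rfl | rfl
      · exact Or.inr (Or.inr (Or.inl rfl))
      · right; right; right; exact (f_congr_z h _ _).symm
      · exact Or.inr (Or.inr (Or.inr rfl))
      · right; right; left; exact h.f_z_mul _ _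
  rw [← SetLike.coe_sort_coe, Nat.card_coe_set_eq]
  refine (Set.ncard_le_ncard hsub (Set.toFinite _)).trans ?_
  refine (Set.ncard_insert_le _ _).trans ?_
  refine (Nat.add_le_add_right (Set.ncard_insert_le _ _) 1).trans ?_
  refine (Nat.add_le_add_right (Nat.add_le_add_right (Set.ncard_insert_le _ _) 1) 1).trans ?_
  rw [Set.ncard_singleton]

end

end Cfsg.Agent.H310.Sp4Norm
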